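import Cfsg.Agent.H162.GaussExcMain
import Cfsg.Agent.H85.Ore.Phi_mg_m3
import Cfsg.Agent.H928.Ore.TwS_m3
import Cfsg.Agent.H841.TwG_m3
import Cfsg.Agent.H584.Ore.ESixTwo_mg
import Cfsg.Agent.H134.Sq.Base_m3
import Cfsg.Agent.H928.Ore.Frame
import Cfsg.Agent.S1054
import Cfsg.Agent.H84.TwF4Cover
import Cfsg.Agent.H84.TitsLink
import Cfsg.Agent.H538.Ore.Small
import Cfsg.Agent.FastGrp
import Cfsg.Agent.Prune
set_option linter.all false

section
prune_inst 0x7ffdfdfbbff8efffffff7e77aedfdffdf9bfdfffafdff9cb7fe861ffafdf2302cde5fb8d8fe052ff1ef6e29610ba7853fbffffffea6bfc7ffffd5ff45ffbee4fe5f6bd08519e8cb40fbc0fff83f07f8e7f3fffffffffffffffffffffffffffbeffffffffffff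

-- part: H374/Ore/F4
section
prune_inst 0x4000000000000000000000200000000200400000000000000048000000000000000000101002040000000000000000000020000000000000000000000000000000000000000000000000000000000000000000000000000000000000000000000
set_option linter.all false
open scoped Cfsg.Agent.FastGrp

-- part: H903/Ore/F4Conj
section
/-!
# `F₄(q)`: the Levi subgroup of type long `A₂` times short `A₁` (S2443, helper903)

Nodes of `chevF4`: `0, 1` short, `2, 3` long; `J = {0, 2, 3}`, long block `{3, 2}`, short block `{0}`.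

* `Blk K φ₃ φ₂` : `φ₃ : SL₃(K) →* G`, `φ₂ : SL₂(K) →* G` with the root elements as images of transvections;
* `exists_blk`, `Blk.comm`, `Blk.mem₃`, `Blk.mem₂`, `Blk.mem_UJ`, `Blk.mem_UNJ`;
* `Blk.gl` : conjugation by a pair of elements of `GL₃(K) × GL₂(K)` is induced by an element of `G`;
* `Blk.exists_z` : an involution `z` with `z φ₃(A) z⁻¹ = φ₃(D A⁻ᵀ D)`, `z φ₂(B) z⁻¹ = φ₂(D' B⁻ᵀ D')`, inverting the torus;
* `Blk.conj` : `φ₃(Y) φ₂(B')` is conjugate to `(φ₃(X) φ₂(B))⁻¹`.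
-/

set_option autoImplicit false
set_option linter.unusedSectionVars false

namespace Cfsg.Agent.H903.Ore.F4Conj

open CoxeterSystem Cfsg.Agent.ChevalleyStructure.CoxeterGeom Cfsg.Agent.Tits.Roots Cfsg.Agent.Tits.Core
  Cfsg.Agent.Nodes.Reps Cfsg.Agent.Nodes.BNOf Cfsg.Agent.Nodes.RGDLib Cfsg.Agent.Nodes.Bruhat
  Cfsg.Agent.Nodes.OppDec Cfsg.Agent.Nodes.LeviDec Cfsg.Agent.Nodes.KindChev Cfsg.Agent.Nodes.ChevCls
  Cfsg.Agent.OddHalf.NI.ModelChev
  Cfsg.Agent.H162.GaussDec Cfsg.Agent.H162.GaussLevi Cfsg.Agent.H162.GaussSL Cfsg.Agent.H162.GaussReg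
  Cfsg.Agent.H162.GaussMain Cfsg.Agent.H162.GaussPQ Cfsg.Agent.H162.GaussExc Cfsg.Agent.H162.GaussExcMain
open Cfsg.Lie Cfsg.Agent.ChevalleyStructure Cfsg.Agent.ChevalleyStructure.Elts
  Cfsg.Agent.ChevalleyStructure.RootVec Cfsg.Agent.ChevalleyStructure.NPerm
  Cfsg.Agent.ChevalleyStructure.CoxeterGeomTypes Cfsg.Agent.Nodes.RGDChev Cfsg.Agent.KFacts.RgdChevCoord
open Cfsg.Agent.FixBN.FieldRGD (uu vv dd ww)
open Cfsg.Agent.TitsThree.KExcRT Cfsg.Agent.AGraded Cfsg.Agent.TitsThree.KExcBase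
open Cfsg.Agent.H335.Sr
open scoped MatrixGroups

universe u

theorem rep_neg {D : ChevalleyDatum} {l : ℕ} {M : CoxeterMatrix (Fin l)} (hp : IsType D l M) {ω : List (Fin l)}
    (h : ∀ j : Fin l, Cfsg.Agent.H162.GaussExc.fr D ω (D.simple j) = D.neg (D.simple j)) (x : Fin l → ℤ) :
    rep M.toCoxeterSystem hp.isCartan (M.toCoxeterSystem.wordProd ω) x = -x := by
  have key : rep M.toCoxeterSystem hp.isCartan (M.toCoxeterSystem.wordProd ω) =
      -(LinearMap.id : (Fin l → ℤ) →ₗ[ℤ] (Fin l → ℤ)) := by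
    refine LinearMap.pi_ext' fun i => ?_
    refine LinearMap.ext_ring ?_
    change rep M.toCoxeterSystem hp.isCartan (M.toCoxeterSystem.wordProd ω) (Pi.single i 1) = - (Pi.single i 1)
    have hi := _root_.Cfsg.Agent.ChevalleyStructure.NPerm.simple_lt hp.inList (lt_rank hp i)
    have h2 : (Pi.single i 1 : Fin l → ℤ) = vec D l (D.simple i) := (vec_simple hp i).symm
    rw [h2, ← fr_vec hp M.toCoxeterSystem ω hi, h i, vec_neg hp hi]
  rw [key]
  rfl

/-- the type of `chevF4` -/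
theorem hF : IsType chevF4 4 CoxeterMatrix.F₄ := Cfsg.Agent.Nodes.KindF.isType

/-- the long block -/
def r3 : Fin 3 → Fin 3 → ℕ := ![![0, 24, 26], ![23, 0, 25], ![21, 22, 0]]

/-- the short block -/
def r2 : Fin 2 → Fin 2 → ℕ := ![![0, 33], ![14, 0]]

theorem rt3 : RTa chevF4 r3 ∧ (RTb chevF4 r3 fun _ _ => 1) ∧ RTc chevF4 r3 ∧
    ∀ i j, i ≠ j → r3 j i = chevF4.neg (r3 i j) := by decide +kernel

theorem rt2 : (∀ i j, i ≠ j → r2 i j < chevF4.nroots) ∧ ∀ i j, i ≠ j → r2 j i = chevF4.neg (r2 i j) := by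
  decide +kernel

theorem rcomm : ∀ a b, a ≠ b → ∀ c d, c ≠ d → r2 c d ≠ r3 a b ∧ r2 c d ≠ chevF4.neg (r3 a b) ∧
    chevF4.commTerms (r3 a b) (r2 c d) = [] := by decide +kernel

/-- the roots of the Levi subgroup -/
theorem rsub : ∀ q < chevF4.nroots, vec chevF4 4 q 1 = 0 → q ∈ [24, 26, 25, 33, 23, 21, 22, 14] := by
  decide +kernel

theorem rneg : ∀ q ∈ [23, 21, 22, 14], ∃ k : Fin 4, vec chevF4 4 q k < 0 := by decide +kernel

theorem rJ : (∀ a b, a ≠ b → vec chevF4 4 (r3 a b) 1 = 0) ∧ (∀ a b, a ≠ b → vec chevF4 4 (r2 a b) 1 = 0) := by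
  decide +kernel

/-- the fundamental coweights of the nodes 3 and 0 -/
theorem coweights :
    (∀ a b, a ≠ b → ∑ i : Fin 4, (![1, 2, 3, 2] : Fin 4 → ℤ) i * chevF4.cartan i (r3 a b) =
      (if a = 0 then 1 else 0) - (if b = 0 then 1 else 0)) ∧
    (∀ a b, a ≠ b → ∑ i : Fin 4, (![1, 2, 3, 2] : Fin 4 → ℤ) i * chevF4.cartan i (r2 a b) = 0) ∧
    (∀ a b, a ≠ b → ∑ i : Fin 4, (![2, 3, 4, 2] : Fin 4 → ℤ) i * chevF4.cartan i (r2 a b) =
      (if a = 0 then 1 else 0) - (if b = 0 then 1 else 0)) ∧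
    (∀ a b, a ≠ b → ∑ i : Fin 4, (![2, 3, 4, 2] : Fin 4 → ℤ) i * chevF4.cartan i (r3 a b) = 0) := by
  decide +kernel

theorem w0neg : ∀ j : Fin 4, Cfsg.Agent.H162.GaussExc.fr chevF4 wF (chevF4.simple j) = chevF4.neg (chevF4.simple j) := by
  decide +kernel

variable (K : Type u) [Field K]

/-- the data of the two blocks -/
structure Blk (φ₃ : SL(3, K) →* ↥(chevF4.group K)) (φ₂ : SL(2, K) →* ↥(chevF4.group K)) : Prop where
  h₃ : ∀ a b (hab : a ≠ b) (c : K), φ₃ (Matrix.SpecialLinearGroup.transvection hab c) =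
    xc hF (vec chevF4 4 (r3 a b)) ((1 : K) * c)
  h₂ : ∀ a b (hab : a ≠ b) (c : K), φ₂ (Matrix.SpecialLinearGroup.transvection hab c) =
    xc hF (vec chevF4 4 (r2 a b)) ((1 : K) * c)

theorem exists_blk : ∃ φ₃ φ₂, Blk K φ₃ φ₂ := by
  obtain ⟨φ₃, h3⟩ := exists_hom_D hF (K := K) (ε := 1) (by norm_num) rt3.1 rt3.2.1 rt3.2.2.1 rt3.2.2.2
  have h33 : 33 < chevF4.nroots := by decide +kernel
  have h14 : chevF4.neg 33 = 14 := by decide +kernel
  obtain ⟨φ₂, h1, h2, -, -, -⟩ := exists_sl hF (K := K) h33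
  refine ⟨φ₃, φ₂, fun a b hab c => ?_, fun a b hab c => ?_⟩
  · rw [h3 a b hab c, Int.cast_one]
  · rw [one_mul]
    have e1 : ∀ c : K, Matrix.SpecialLinearGroup.transvection (show (0 : Fin 2) ≠ 1 by decide) c = uu c := by
      intro c
      apply Subtype.ext
      ext i j
      (revert i j; simp only [Matrix.SpecialLinearGroup.transvection, Matrix.transvection, uu, _root_.Fin.forall_fin_succ, Fin.isValue, _root_.Matrix.add_apply, _root_.Matrix.of_apply, _root_.Matrix.cons_val', _root_.Matrix.cons_val_fin_one, _root_.one_ne_zero, _root_.and_false, _root_.not_false_eq_true, _root_.Matrix.single_apply_of_ne, _root_.add_zero, _root_.Matrix.cons_val_zero, _root_.Matrix.cons_val_succ, _root_.Fin.succ_zero_eq_one, _root_.IsEmpty.forall_iff, _root_.and_true, _root_.Matrix.one_apply_eq, Nat.reduceAdd, _root_.ne_eq, _root_.zero_ne_one, _root_.Matrix.one_apply_ne, _root_.Matrix.single_apply_same, _root_.zero_add,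 _root_.and_self, _root_.Fin.succ_ne_zero, _root_.true_and])
    have e2 : ∀ c : K, Matrix.SpecialLinearGroup.transvection (show (1 : Fin 2) ≠ 0 by decide) c = vv c := by
      intro c
      apply Subtype.ext
      ext i j
      (revert i j; simp only [Matrix.SpecialLinearGroup.transvection, Matrix.transvection, vv, _root_.Fin.forall_fin_succ, Fin.isValue, _root_.Matrix.add_apply, _root_.Matrix.of_apply, _root_.Matrix.cons_val', _root_.Matrix.cons_val_fin_one, _root_.Matrix.cons_val_zero, _root_.Matrix.cons_val_succ, _root_.Fin.succ_zero_eq_one, _root_.zero_ne_one, _root_.and_false, _root_.not_false_eq_true, _root_.Matrix.single_apply_of_ne, _root_.add_zero, _root_.IsEmpty.forall_iff, _root_.and_true, _root_.Matrix.one_apply_eq, _root_.one_ne_zero, Nat.reduceAdd, _root_.ne_eq, _root_.Matrix.one_apply_ne, _root_.and_self, _root_.Fin.succ_ne_zero, _root_.zero_add, _root_.Matrix.single_apply_same])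
    have e3 : vec chevF4 4 14 = - vec chevF4 4 33 := by
      rw [← vec_neg hF h33, h14]
    fin_cases a <;> fin_cases b
    · exact absurd rfl hab
    · exact (congrArg φ₂ (e1 c)).trans (h1 c)
    · refine (congrArg φ₂ (e2 c)).trans ((h2 c).trans ?_)
      rw [← e3]
      rfl
    · exact absurd rfl hab

variable {K}
variable {φ₃ : SL(3, K) →* ↥(chevF4.group K)} {φ₂ : SL(2, K) →* ↥(chevF4.group K)} (B : Blk K φ₃ φ₂)

namespace Blk

include B

theorem comm (A : SL(3, K)) (C : SL(2, K)) : φ₃ A * φ₂ C = φ₂ C * φ₃ A := by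
  have key : ∀ a b (hab : a ≠ b) (c : K) a' b' (hab' : a' ≠ b') (c' : K),
      Commute (φ₃ (Matrix.SpecialLinearGroup.transvection hab c)) (φ₂ (Matrix.SpecialLinearGroup.transvection hab' c')) := by
    intro a b hab c a' b' hab' c'
    rw [B.h₃, B.h₂]
    apply Subtype.ext
    obtain ⟨h1, h2, h3⟩ := rcomm a b hab a' b' hab'
    have h4 := comm_nil (F := K) hF.inList (rt3.1 a b hab) (rt2.1 a' b' hab') h1 h2 h3 (1 * c) (1 * c')
    rw [← coe_xc hF (rt3.1 a b hab), ← coe_xc hF (rt2.1 a' b' hab')] at h4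
    exact h4
  have h1 : ∀ C : SL(2, K), ∀ a b (hab : a ≠ b) (c : K),
      Commute (φ₃ (Matrix.SpecialLinearGroup.transvection hab c)) (φ₂ C) := by
    intro C a b hab c
    have h2 : (⊤ : Subgroup SL(2, K)) ≤
        (Subgroup.centralizer {φ₃ (Matrix.SpecialLinearGroup.transvection hab c)}).comap φ₂ := by
      rw [← Cfsg.Agent.LieClassical.SLGen.closure_transvections, Subgroup.closure_le]
      rintro _ ⟨a', b', hab', c', rfl⟩
      exact Subgroup.mem_centralizer_singleton_iff.2 (key a b hab c a' b' hab' c').eq.symm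
    exact (Subgroup.mem_centralizer_singleton_iff.1 (h2 (Subgroup.mem_top C))).symm
  have h3 : (⊤ : Subgroup SL(3, K)) ≤ (Subgroup.centralizer {φ₂ C}).comap φ₃ := by
    rw [← Cfsg.Agent.LieClassical.SLGen.closure_transvections, Subgroup.closure_le]
    rintro _ ⟨a, b, hab, c, rfl⟩
    exact Subgroup.mem_centralizer_singleton_iff.2 (h1 C a b hab c).eq
  exact Subgroup.mem_centralizer_singleton_iff.1 (h3 (Subgroup.mem_top A))

theorem mem₃ (A : SL(3, K)) : φ₃ A ∈ LJ CoxeterMatrix.F₄.toCoxeterSystem hF.isCartan (TT chevF4 K) (XX chevF4 4 K)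
    {k | k ≠ 1} := by
  have h1 : (⊤ : Subgroup SL(3, K)) ≤
      (LJ CoxeterMatrix.F₄.toCoxeterSystem hF.isCartan (TT chevF4 K) (XX chevF4 4 K) {k | k ≠ 1}).comap φ₃ := by
    rw [← Cfsg.Agent.LieClassical.SLGen.closure_transvections, Subgroup.closure_le]
    rintro _ ⟨a, b, hab, c, rfl⟩
    change φ₃ _ ∈ LJ CoxeterMatrix.F₄.toCoxeterSystem hF.isCartan (TT chevF4 K) (XX chevF4 4 K) {k | k ≠ 1}
    rw [B.h₃]
    refine X_le_LJ (J := {k | k ≠ 1}) (x := vec chevF4 4 (r3 a b)) ⟨isRoot_vec hF _ (rt3.1 a b hab), ?_⟩ ?_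
    · intro k hk
      have : k = 1 := by simpa using hk
      subst this
      exact rJ.1 a b hab
    · exact (mem_XX hF (rt3.1 a b hab) _).2 ⟨_, rfl⟩
  exact h1 (Subgroup.mem_top A)

theorem mem₂ (A : SL(2, K)) : φ₂ A ∈ LJ CoxeterMatrix.F₄.toCoxeterSystem hF.isCartan (TT chevF4 K) (XX chevF4 4 K)
    {k | k ≠ 1} := by
  have h1 : (⊤ : Subgroup SL(2, K)) ≤
      (LJ CoxeterMatrix.F₄.toCoxeterSystem hF.isCartan (TT chevF4 K) (XX chevF4 4 K) {k | k ≠ 1}).comap φ₂ := by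
    rw [← Cfsg.Agent.LieClassical.SLGen.closure_transvections, Subgroup.closure_le]
    rintro _ ⟨a, b, hab, c, rfl⟩
    change φ₂ _ ∈ LJ CoxeterMatrix.F₄.toCoxeterSystem hF.isCartan (TT chevF4 K) (XX chevF4 4 K) {k | k ≠ 1}
    rw [B.h₂]
    refine X_le_LJ (J := {k | k ≠ 1}) (x := vec chevF4 4 (r2 a b)) ⟨isRoot_vec hF _ (rt2.1 a b hab), ?_⟩ ?_
    · intro k hk
      have : k = 1 := by simpa using hk
      subst this
      exact rJ.2 a b hab
    · exact (mem_XX hF (rt2.1 a b hab) _).2 ⟨_, rfl⟩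
  exact h1 (Subgroup.mem_top A)

theorem XX_le₃ {a b : Fin 3} (hab : a ≠ b) {S : Subgroup SL(3, K)}
    (hS : ∀ c, Matrix.SpecialLinearGroup.transvection hab c ∈ S) : XX chevF4 4 K (vec chevF4 4 (r3 a b)) ≤ S.map φ₃ := by
  intro y hy
  obtain ⟨c, rfl⟩ := (mem_XX hF (rt3.1 a b hab) y).1 hy
  exact ⟨_, hS c, by rw [B.h₃, one_mul]⟩

theorem XX_le₂ {a b : Fin 2} (hab : a ≠ b) {S : Subgroup SL(2, K)}
    (hS : ∀ c, Matrix.SpecialLinearGroup.transvection hab c ∈ S) : XX chevF4 4 K (vec chevF4 4 (r2 a b)) ≤ S.map φ₂ := by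
  intro y hy
  obtain ⟨c, rfl⟩ := (mem_XX hF (rt2.1 a b hab) y).1 hy
  exact ⟨_, hS c, by rw [B.h₂, one_mul]⟩

theorem UJ_le : UJ CoxeterMatrix.F₄.toCoxeterSystem hF.isCartan (XX chevF4 4 K) {k | k ≠ 1} ≤
    (UT 3 K).map φ₃ ⊔ (UT 2 K).map φ₂ := by
  refine RGD.Sup_le fun x hx => ?_
  obtain ⟨q, hq, rfl⟩ := (isRoot_iff hF _ x).1 hx.1
  have h1 := rsub q hq (hx.2.2 1 (by simp))
  have h2 : q ∉ [23, 21, 22, 14] := by
    intro h
    obtain ⟨k, hk⟩ := rneg q h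
    exact absurd (hx.2.1 k) (not_le.2 hk)
  have h3 : q ∈ [24, 26, 25, 33] := by
    simp only [List.mem_cons, List.not_mem_nil, or_false] at h1 h2 ⊢
    (clear * - h1 h2; itauto)
  simp only [List.mem_cons, List.not_mem_nil, or_false] at h3
  rcases h3 with rfl | rfl | rfl | rfl
  · exact le_trans (XX_le₃ B (a := 0) (b := 1) (by decide) fun c => tv_mem_UT _ (by decide) c) le_sup_left
  · exact le_trans (XX_le₃ B (a := 0) (b := 2) (by decide) fun c => tv_mem_UT _ (by decide) c) le_sup_left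
  · exact le_trans (XX_le₃ B (a := 1) (b := 2) (by decide) fun c => tv_mem_UT _ (by decide) c) le_sup_left
  · exact le_trans (XX_le₂ B (a := 0) (b := 1) (by decide) fun c => tv_mem_UT _ (by decide) c) le_sup_right

theorem UNJ_le : UNJ CoxeterMatrix.F₄.toCoxeterSystem hF.isCartan (XX chevF4 4 K) {k | k ≠ 1} ≤
    (LT 3 K).map φ₃ ⊔ (LT 2 K).map φ₂ := by
  refine RGD.Sup_le fun x hx => ?_
  obtain ⟨q, hq, rfl⟩ := (isRoot_iff hF _ x).1 (by simpa using hx.1.neg)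
  have h0 : vec chevF4 4 q 1 = 0 := by
    have := hx.2.2 1 (by simp)
    simpa using this
  have h1 := rsub q hq h0
  have h2 : ∀ k, vec chevF4 4 q k ≤ 0 := by
    intro k
    have : (0 : ℤ) ≤ -vec chevF4 4 q k := hx.2.1 k
    linarith
  have h4 : ∀ q ∈ [24, 26, 25, 33], ∃ k : Fin 4, 0 < vec chevF4 4 q k := by decide +kernel
  have h5 : q ∉ [24, 26, 25, 33] := by
    intro h
    obtain ⟨k, hk⟩ := h4 q h
    exact absurd (h2 k) (not_le.2 hk)
  have h3 : q ∈ [23, 21, 22, 14] := by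
    simp only [List.mem_cons, List.not_mem_nil, or_false] at h1 h5 ⊢
    (clear * - h1 h5; itauto)
  simp only [List.mem_cons, List.not_mem_nil, or_false] at h3
  rcases h3 with rfl | rfl | rfl | rfl
  · exact le_trans (XX_le₃ B (a := 1) (b := 0) (by decide) fun c => tv_mem_LT _ (by decide) c) le_sup_left
  · exact le_trans (XX_le₃ B (a := 2) (b := 0) (by decide) fun c => tv_mem_LT _ (by decide) c) le_sup_left
  · exact le_trans (XX_le₃ B (a := 2) (b := 1) (by decide) fun c => tv_mem_LT _ (by decide) c) le_sup_left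
  · exact le_trans (XX_le₂ B (a := 1) (b := 0) (by decide) fun c => tv_mem_LT _ (by decide) c) le_sup_right

theorem mem_sup {S : Subgroup SL(3, K)} {S' : Subgroup SL(2, K)} {y : ↥(chevF4.group K)}
    (hy : y ∈ S.map φ₃ ⊔ S'.map φ₂) : ∃ A ∈ S, ∃ C ∈ S', y = φ₃ A * φ₂ C := by
  have h1 : S'.map φ₂ ≤ Subgroup.normalizer (S.map φ₃ : Set ↥(chevF4.group K)) := by
    rintro _ ⟨C, -, rfl⟩
    rw [Subgroup.mem_normalizer_iff]
    intro x
    constructor
    · rintro ⟨A, hA, rfl⟩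
      exact ⟨A, hA, by rw [← B.comm]; group⟩
    · rintro ⟨A, hA, e⟩
      refine ⟨A, hA, ?_⟩
      have : x = (φ₂ C)⁻¹ * φ₃ A * φ₂ C := by rw [e]; group
      rw [this, mul_assoc, B.comm]; group
  have h2 : y ∈ ((S.map φ₃ ⊔ S'.map φ₂ : Subgroup ↥(chevF4.group K)) : Set ↥(chevF4.group K)) := hy
  rw [Subgroup.coe_mul_of_right_le_normalizer_left _ _ h1, Set.mem_mul] at h2
  obtain ⟨_, ⟨A, hA, rfl⟩, _, ⟨C, hC, rfl⟩, e⟩ := h2
  exact ⟨A, hA, C, hC, e.symm⟩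

/-- **the elements of `U_J`** -/
theorem mem_UJ {u : ↥(chevF4.group K)}
    (hu : u ∈ UJ CoxeterMatrix.F₄.toCoxeterSystem hF.isCartan (XX chevF4 4 K) {k | k ≠ 1}) :
    ∃ A ∈ UT 3 K, ∃ C ∈ UT 2 K, u = φ₃ A * φ₂ C := mem_sup B (B.UJ_le hu)

/-- **the elements of `U_J⁻`** -/
theorem mem_UNJ {u : ↥(chevF4.group K)}
    (hu : u ∈ UNJ CoxeterMatrix.F₄.toCoxeterSystem hF.isCartan (XX chevF4 4 K) {k | k ≠ 1}) :
    ∃ A ∈ LT 3 K, ∃ C ∈ LT 2 K, u = φ₃ A * φ₂ C := mem_sup B (B.UNJ_le hu)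

/-! ### Conjugation by diagonal elements -/

theorem act₃ {e : Fin 4 → ℤ} {k : ℤ} (he : ∀ a b, a ≠ b → ∑ i : Fin 4, e i * chevF4.cartan i (r3 a b) =
    k * ((if a = 0 then 1 else 0) - (if b = 0 then 1 else 0))) (d : Kˣ) (A : SL(3, K)) :
    _root_.Cfsg.Agent.H162.GaussExc.sg hF e d * φ₃ A * (sg hF e d)⁻¹ = φ₃ (gc (_root_.Cfsg.Agent.H162.GaussReg.dd 2 (d ^ k)) A) := by
  have h1 : (MulAut.conj (_root_.Cfsg.Agent.H162.GaussExc.sg hF e d)).toMonoidHom.comp φ₃ = φ₃.comp (gcHom (_root_.Cfsg.Agent.H162.GaussReg.dd 2 (d ^ k))) := by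
    refine hom_ext fun a b hab c => ?_
    change _root_.Cfsg.Agent.H162.GaussExc.sg hF e d * φ₃ _ * (sg hF e d)⁻¹ = φ₃ (gc (_root_.Cfsg.Agent.H162.GaussReg.dd 2 (d ^ k)) _)
    rw [gc_dd_transvection, B.h₃, B.h₃, act_sg hF e d (rt3.1 a b hab), he a b hab]
    congr 1
    by_cases ha : a = 0
    · have hb : b ≠ 0 := fun h => hab (ha.trans h.symm)
      simp [ha, hb]
    · by_cases hb : b = 0
      · simp only [ha, hb, _root_.Fin.isValue, ↓ _root_.reduceIte, _root_.zero_sub, _root_.Int.reduceNeg, _root_.mul_neg, _root_.mul_one, _root_.zpow_neg, _root_.Units.val_inv_eq_inv_val, _root_.Units.val_zpow_eq_zpow_val, _root_.one_mul, _root_.Nat.reduceAdd]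
        ring
      · simp [ha, hb]
  exact DFunLike.congr_fun h1 A

theorem act₂ {e : Fin 4 → ℤ} {k : ℤ} (he : ∀ a b, a ≠ b → ∑ i : Fin 4, e i * chevF4.cartan i (r2 a b) =
    k * ((if a = 0 then 1 else 0) - (if b = 0 then 1 else 0))) (d : Kˣ) (A : SL(2, K)) :
    _root_.Cfsg.Agent.H162.GaussExc.sg hF e d * φ₂ A * (sg hF e d)⁻¹ = φ₂ (gc (_root_.Cfsg.Agent.H162.GaussReg.dd 1 (d ^ k)) A) := by
  have h1 : (MulAut.conj (_root_.Cfsg.Agent.H162.GaussExc.sg hF e d)).toMonoidHom.comp φ₂ = φ₂.comp (gcHom (_root_.Cfsg.Agent.H162.GaussReg.dd 1 (d ^ k))) := by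
    refine hom_ext fun a b hab c => ?_
    change _root_.Cfsg.Agent.H162.GaussExc.sg hF e d * φ₂ _ * (sg hF e d)⁻¹ = φ₂ (gc (_root_.Cfsg.Agent.H162.GaussReg.dd 1 (d ^ k)) _)
    rw [gc_dd_transvection, B.h₂, B.h₂, act_sg hF e d (rt2.1 a b hab), he a b hab]
    congr 1
    by_cases ha : a = 0
    · have hb : b ≠ 0 := fun h => hab (ha.trans h.symm)
      simp [ha, hb]
    · by_cases hb : b = 0
      · simp only [ha, hb, _root_.Fin.isValue, ↓ _root_.reduceIte, _root_.zero_sub, _root_.Int.reduceNeg, _root_.mul_neg, _root_.mul_one, _root_.zpow_neg, _root_.Units.val_inv_eq_inv_val, _root_.Units.val_zpow_eq_zpow_val, _root_.one_mul, _root_.Nat.reduceAdd]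
        ring
      · simp [ha, hb]
  exact DFunLike.congr_fun h1 A

theorem gc_dd_one {n : ℕ} (A : Matrix.SpecialLinearGroup (Fin (n + 1)) K) : gc (_root_.Cfsg.Agent.H162.GaussReg.dd n (1 : Kˣ)) A = A := by
  have : _root_.Cfsg.Agent.H162.GaussReg.dd n (1 : Kˣ) = 1 := by
    apply Units.ext
    change Matrix.diagonal _ = 1
    rw [← Matrix.diagonal_one]
    congr 1
    funext i
    simp
  rw [this, gc_one]

/-- **conjugation by `GL₃ × GL₂`** -/
theorem gl (g : GL (Fin 3) K) (g' : GL (Fin 2) K) : ∃ y : ↥(chevF4.group K),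
    (∀ A, y * φ₃ A * y⁻¹ = φ₃ (gc g A)) ∧ ∀ C, y * φ₂ C * y⁻¹ = φ₂ (gc g' C) := by
  obtain ⟨d, A₀, hg⟩ := exists_dd (n := 2) g
  obtain ⟨d', C₀, hg'⟩ := exists_dd (n := 1) g'
  have a3 := fun A => B.act₃ (e := ![1, 2, 3, 2]) (k := 1) (fun a b hab => by rw [coweights.1 a b hab, one_mul]) d A
  have a2 := fun A => B.act₂ (e := ![1, 2, 3, 2]) (k := 0) (fun a b hab => by rw [coweights.2.1 a b hab, zero_mul]) d A
  have b2 := fun A => B.act₂ (e := ![2, 3, 4, 2]) (k := 1) (fun a b hab => by rw [coweights.2.2.1 a b hab, one_mul]) d' A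
  have b3 := fun A => B.act₃ (e := ![2, 3, 4, 2]) (k := 0) (fun a b hab => by rw [coweights.2.2.2 a b hab, zero_mul]) d' A
  simp only [zpow_one, zpow_zero, gc_dd_one B] at a3 a2 b2 b3
  have c3 : ∀ A, φ₃ (gc g A) = φ₃ (gc (_root_.Cfsg.Agent.H162.GaussReg.dd 2 d) (A₀ * A * A₀⁻¹)) := by
    intro A
    rw [hg, ← gc_gc]
    congr 1
  have c2 : ∀ C, φ₂ (gc g' C) = φ₂ (gc (_root_.Cfsg.Agent.H162.GaussReg.dd 1 d') (C₀ * C * C₀⁻¹)) := by
    intro A
    rw [hg', ← gc_gc]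
    congr 1
  obtain ⟨t₁, ht₁⟩ : ∃ t, t = _root_.Cfsg.Agent.H162.GaussExc.sg hF ![1, 2, 3, 2] d := ⟨_, rfl⟩
  obtain ⟨t₂, ht₂⟩ : ∃ t, t = sg hF ![2, 3, 4, 2] d' := ⟨_, rfl⟩
  rw [← ht₁] at a3 a2
  rw [← ht₂] at b3 b2
  refine ⟨t₁ * t₂ * (φ₃ A₀ * φ₂ C₀), fun A => ?_, fun C => ?_⟩
  · have h1 : φ₃ A₀ * φ₂ C₀ * φ₃ A * (φ₃ A₀ * φ₂ C₀)⁻¹ = φ₃ (A₀ * A * A₀⁻¹) := by
      rw [map_mul, map_mul, map_inv]
      have h2 := B.comm A C₀
      calc φ₃ A₀ * φ₂ C₀ * φ₃ A * (φ₃ A₀ * φ₂ C₀)⁻¹ = φ₃ A₀ * (φ₂ C₀ * φ₃ A) * (φ₂ C₀)⁻¹ * (φ₃ A₀)⁻¹ := by group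
        _ = φ₃ A₀ * φ₃ A * (φ₃ A₀)⁻¹ := by rw [← h2]; group
    have h3 : t₁ * t₂ * (φ₃ A₀ * φ₂ C₀) * φ₃ A * (t₁ * t₂ * (φ₃ A₀ * φ₂ C₀))⁻¹ =
        t₁ * (t₂ * (φ₃ A₀ * φ₂ C₀ * φ₃ A * (φ₃ A₀ * φ₂ C₀)⁻¹) * t₂⁻¹) * t₁⁻¹ := by group
    rw [h3, h1, b3, a3, c3]
  · have h1 : φ₃ A₀ * φ₂ C₀ * φ₂ C * (φ₃ A₀ * φ₂ C₀)⁻¹ = φ₂ (C₀ * C * C₀⁻¹) := by
      have h2 := B.comm A₀ (C₀ * C * C₀⁻¹)
      calc φ₃ A₀ * φ₂ C₀ * φ₂ C * (φ₃ A₀ * φ₂ C₀)⁻¹
          = φ₃ A₀ * (φ₂ C₀ * φ₂ C * (φ₂ C₀)⁻¹) * (φ₃ A₀)⁻¹ := by group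
        _ = φ₃ A₀ * φ₂ (C₀ * C * C₀⁻¹) * (φ₃ A₀)⁻¹ := by rw [map_mul, map_mul, map_inv]
        _ = _ := by rw [h2]; group
    have h3 : t₁ * t₂ * (φ₃ A₀ * φ₂ C₀) * φ₂ C * (t₁ * t₂ * (φ₃ A₀ * φ₂ C₀))⁻¹ =
        t₁ * (t₂ * (φ₃ A₀ * φ₂ C₀ * φ₂ C * (φ₃ A₀ * φ₂ C₀)⁻¹) * t₂⁻¹) * t₁⁻¹ := by group
    rw [h3, h1, b2, a2, c2]

/-- **the involution** -/
theorem exists_z [Finite K] : ∃ (z : ↥(chevF4.group K)) (d : Fin 3 → K) (hd : ∀ a, d a * d a = 1) (d' : Fin 2 → K)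
    (hd' : ∀ a, d' a * d' a = 1), z * z = 1 ∧ (∀ A, z * φ₃ A * z⁻¹ = φ₃ (tau d hd A)) ∧
    (∀ C, z * φ₂ C * z⁻¹ = φ₂ (tau d' hd' C)) ∧ ∀ s ∈ TT chevF4 K, z * s * z⁻¹ = s⁻¹ := by
  obtain ⟨p, hpc⟩ := CharP.exists K
  have : Fact p.Prime := ⟨(CharP.char_is_prime_or_zero K p).resolve_right (CharP.char_ne_zero_of_finite K p)⟩
  have R := rgd (K := K) hF CoxeterMatrix.F₄.toCoxeterSystem p
  obtain ⟨ε, z, Z⟩ := exists_ZD_neg hF CoxeterMatrix.F₄.toCoxeterSystem R.nsys (rep_neg hF w0neg)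
  obtain ⟨d, hd, h3⟩ := Z.block (n := 1) (r := r3) (s := fun _ _ => 1) (φ := φ₃) rt3.1 rt3.2.2.2
    (fun a b hab => rep_neg hF w0neg _) (fun _ _ _ => one_mul 1) B.h₃
  obtain ⟨d', hd', h2⟩ := Z.block (n := 0) (r := r2) (s := fun _ _ => 1) (φ := φ₂) rt2.1 rt2.2
    (fun a b hab => rep_neg hF w0neg _) (fun _ _ _ => one_mul 1) B.h₂
  exact ⟨z, d, hd, d', hd', Z.sq, h3, h2, fun s hs => Z.tor hs (fun _ => rfl) fun _ => rfl⟩

end Blk

/-! ### Matrices -/

section Mat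

variable {n : ℕ}

theorem charpoly_tau [NeZero n] (d : Fin n → K) (hd : ∀ a, d a * d a = 1) (X : Matrix.SpecialLinearGroup (Fin n) K) :
    (tau d hd X).1.charpoly = (X⁻¹).1.charpoly := by
  rw [coe_tau]
  have h1 : (Matrix.diagonal d : Matrix (Fin n) (Fin n) K) * Matrix.diagonal d = 1 := diag_sq hd
  rw [Matrix.charpoly_mul_comm, ← Matrix.mul_assoc, h1, Matrix.one_mul, Matrix.charpoly_transpose]

theorem exists_gc [Finite K] {X Y : Matrix.SpecialLinearGroup (Fin n) K} (hX : Irreducible X.1.charpoly)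
    (hXY : X.1.charpoly = Y.1.charpoly) : ∃ g : GL (Fin n) K, Y = gc g X := by
  obtain ⟨g, hg⟩ := Cfsg.Agent.H150.MF.exists_conj (Cfsg.Agent.H150.MF.cls_of_irreducible hX)
    (Cfsg.Agent.H150.MF.cls_of_irreducible (hXY ▸ hX)) hXY
  exact ⟨g, by rw [hg]; rfl⟩

end Mat

/-- the element is not scalar -/
def NS (C : SL(2, K)) : Prop := C.1 1 0 ≠ 0 ∨ C.1 0 1 ≠ 0 ∨ C.1 0 0 ≠ C.1 1 1

theorem NS.exists_comp {C : SL(2, K)} (h : NS C) :
    ∃ g : GL (Fin 2) K, C.1 * g.1 = g.1 * !![0, -1; 1, C.1.trace] := by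
  obtain ⟨a, b, c, d, hC⟩ : ∃ a b c d : K, C.1 = !![a, b; c, d] :=
    ⟨_, _, _, _, Matrix.eta_fin_two C.1⟩
  have hdet : a * d - b * c = 1 := by
    have := C.2
    rw [hC, Matrix.det_fin_two_of] at this
    exact this
  have htr : C.1.trace = a + d := by rw [hC, Matrix.trace_fin_two_of]
  rw [NS, hC] at h
  simp only [Matrix.of_apply, Matrix.cons_val', Matrix.cons_val_zero, Matrix.cons_val_one, Matrix.cons_val_fin_one,
    Matrix.empty_val', ne_eq] at h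
  rw [htr, hC]
  rcases h with h | h | h
  · refine ⟨Matrix.GeneralLinearGroup.mkOfDetNeZero !![1, a; 0, c] (by
      rw [Matrix.det_fin_two_of]; simpa using h), ?_⟩
    change !![a, b; c, d] * !![1, a; 0, c] = !![1, a; 0, c] * !![0, -1; 1, a + d]
    rw [Matrix.mul_fin_two, Matrix.mul_fin_two]
    have e1 : a * a + b * c = 1 * -1 + a * (a + d) := by linear_combination (-1 : K) * hdet
    have e2 : c * a + d * c = 0 * -1 + c * (a + d) := by ring
    rw [e1, e2]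
    simp
  · refine ⟨Matrix.GeneralLinearGroup.mkOfDetNeZero !![0, b; 1, d] (by
      rw [Matrix.det_fin_two_of]; simpa using h), ?_⟩
    change !![a, b; c, d] * !![0, b; 1, d] = !![0, b; 1, d] * !![0, -1; 1, a + d]
    rw [Matrix.mul_fin_two, Matrix.mul_fin_two]
    have e1 : a * b + b * d = 0 * -1 + b * (a + d) := by ring
    have e2 : c * b + d * d = 1 * -1 + d * (a + d) := by linear_combination (-1 : K) * hdet
    rw [e1, e2]
    simp
  · by_cases hc : c = 0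
    · by_cases hb : b = 0
      · subst hb hc
        refine ⟨Matrix.GeneralLinearGroup.mkOfDetNeZero !![1, a; 1, d] (by
          rw [Matrix.det_fin_two_of, one_mul, mul_one, sub_ne_zero]; exact fun e => h e.symm), ?_⟩
        change !![a, 0; 0, d] * !![1, a; 1, d] = !![1, a; 1, d] * !![0, -1; 1, a + d]
        rw [Matrix.mul_fin_two, Matrix.mul_fin_two]
        have e1 : a * a + 0 * d = 1 * -1 + a * (a + d) := by linear_combination (-1 : K) * hdet
        have e2 : 0 * a + d * d = 1 * -1 + d * (a + d) := by linear_combination (-1 : K) * hdet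
        rw [e1, e2]
        simp only [_root_.mul_one, _root_.add_zero, _root_.mul_neg, _root_.zero_add, _root_.MulZeroClass.mul_zero]
      · refine ⟨Matrix.GeneralLinearGroup.mkOfDetNeZero !![0, b; 1, d] (by
          rw [Matrix.det_fin_two_of]; simpa using hb), ?_⟩
        change !![a, b; c, d] * !![0, b; 1, d] = !![0, b; 1, d] * !![0, -1; 1, a + d]
        rw [Matrix.mul_fin_two, Matrix.mul_fin_two]
        have e1 : a * b + b * d = 0 * -1 + b * (a + d) := by ring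
        have e2 : c * b + d * d = 1 * -1 + d * (a + d) := by linear_combination (-1 : K) * hdet
        rw [e1, e2]
        simp
    · refine ⟨Matrix.GeneralLinearGroup.mkOfDetNeZero !![1, a; 0, c] (by
        rw [Matrix.det_fin_two_of]; simpa using hc), ?_⟩
      change !![a, b; c, d] * !![1, a; 0, c] = !![1, a; 0, c] * !![0, -1; 1, a + d]
      rw [Matrix.mul_fin_two, Matrix.mul_fin_two]
      have e1 : a * a + b * c = 1 * -1 + a * (a + d) := by linear_combination (-1 : K) * hdet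
      have e2 : c * a + d * c = 0 * -1 + c * (a + d) := by ring
      rw [e1, e2]
      simp

theorem NS.exists_gc {C C' : SL(2, K)} (h : NS C) (h' : NS C') (ht : C'.1.trace = C.1.trace) :
    ∃ g : GL (Fin 2) K, C' = gc g C := by
  obtain ⟨g, hg⟩ := h.exists_comp
  obtain ⟨g', hg'⟩ := h'.exists_comp
  refine ⟨g' * g⁻¹, ?_⟩
  apply coe_inj
  rw [coe_gc]
  rw [ht] at hg'
  obtain ⟨m, hm⟩ : ∃ m : GL (Fin 2) K, m.1 = !![0, -1; 1, C.1.trace] :=
    ⟨Matrix.GeneralLinearGroup.mkOfDetNeZero !![0, -1; 1, C.1.trace] (by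
      rw [Matrix.det_fin_two_of]; simp), rfl⟩
  have e1 : (C : GL (Fin 2) K) * g = g * m := Units.ext (by
    change C.1 * g.1 = g.1 * m.1
    rw [hm, hg])
  have e2 : (C' : GL (Fin 2) K) * g' = g' * m := Units.ext (by
    change C'.1 * g'.1 = g'.1 * m.1
    rw [hm, hg'])
  have e3 : m = g⁻¹ * (C : GL (Fin 2) K) * g := by rw [mul_assoc, e1]; group
  calc (C' : GL (Fin 2) K) = (C' : GL (Fin 2) K) * g' * g'⁻¹ := by group
    _ = g' * m * g'⁻¹ := by rw [e2]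
    _ = g' * g⁻¹ * (C : GL (Fin 2) K) * (g' * g⁻¹)⁻¹ := by rw [e3]; group

theorem coe_inv_two (C : SL(2, K)) : (C⁻¹).1 = !![C.1 1 1, -C.1 0 1; -C.1 1 0, C.1 0 0] := by
  rw [Matrix.SpecialLinearGroup.coe_inv, Matrix.adjugate_fin_two]

theorem NS.inv {C : SL(2, K)} (h : NS C) : NS C⁻¹ := by
  rw [NS, coe_inv_two]
  simp only [Matrix.of_apply, Matrix.cons_val', Matrix.cons_val_zero, Matrix.cons_val_one, Matrix.cons_val_fin_one,
    Matrix.empty_val', ne_eq, neg_eq_zero]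
  rcases h with h | h | h
  · exact Or.inl h
  · exact Or.inr (Or.inl h)
  · exact Or.inr (Or.inr fun e => h e.symm)

theorem trace_inv (C : SL(2, K)) : (C⁻¹).1.trace = C.1.trace := by
  rw [coe_inv_two, Matrix.trace_fin_two_of, Matrix.trace_fin_two]
  ring

theorem tau_apply (d : Fin 2 → K) (hd : ∀ a, d a * d a = 1) (C : SL(2, K)) (i j : Fin 2) :
    (tau d hd C).1 i j = d i * (C⁻¹).1 j i * d j := by
  rw [coe_tau, Matrix.mul_diagonal, Matrix.diagonal_mul, Matrix.transpose_apply]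

theorem NS.tau {C : SL(2, K)} (h : NS C) (d : Fin 2 → K) (hd : ∀ a, d a * d a = 1) : NS (tau d hd C) := by
  have hd0 : ∀ a, d a ≠ 0 := fun a => left_ne_zero_of_mul_eq_one (hd a)
  have h' := h.inv
  rw [NS] at h'
  rw [NS, tau_apply, tau_apply, tau_apply, tau_apply]
  rcases h' with h | h | h
  · exact Or.inr (Or.inl (mul_ne_zero (mul_ne_zero (hd0 _) h) (hd0 _)))
  · exact Or.inl (mul_ne_zero (mul_ne_zero (hd0 _) h) (hd0 _))
  · refine Or.inr (Or.inr fun e => h ?_)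
    have e1 : ∀ i, d i * (C⁻¹).1 i i * d i = (C⁻¹).1 i i := by
      intro i
      calc d i * (C⁻¹).1 i i * d i = (d i * d i) * (C⁻¹).1 i i := by ring
        _ = _ := by rw [hd, one_mul]
    rw [e1, e1] at e
    exact e

theorem trace_tau (d : Fin 2 → K) (hd : ∀ a, d a * d a = 1) (C : SL(2, K)) : (tau d hd C).1.trace = C.1.trace := by
  rw [Matrix.trace_fin_two, tau_apply, tau_apply, ← trace_inv, Matrix.trace_fin_two]
  have e1 : ∀ i, d i * (C⁻¹).1 i i * d i = (C⁻¹).1 i i := by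
    intro i
    calc d i * (C⁻¹).1 i i * d i = (d i * d i) * (C⁻¹).1 i i := by ring
      _ = _ := by rw [hd, one_mul]
  rw [e1, e1]

/-! ### Conjugacy -/

include B in
/-- **Conjugacy.** `Y` has the characteristic polynomial of `X` or of `X⁻¹`, irreducible; `C`, `C'` are not scalar and have
the same trace: `φ₃(Y) φ₂(C')` is conjugate to the inverse of `φ₃(X) φ₂(C)`. -/
theorem Blk.conj [Finite K] {X Y : SL(3, K)} (hX : Irreducible X.1.charpoly) (hY : Irreducible Y.1.charpoly)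
    (hXY : Y.1.charpoly = X.1.charpoly ∨ Y.1.charpoly = (X⁻¹).1.charpoly) {C C' : SL(2, K)} (hC : NS C) (hC' : NS C')
    (ht : C'.1.trace = C.1.trace) : ∃ y : ↥(chevF4.group K), φ₃ Y * φ₂ C' = y * (φ₃ X * φ₂ C)⁻¹ * y⁻¹ := by
  have e0 : (φ₃ X * φ₂ C)⁻¹ = φ₃ X⁻¹ * φ₂ C⁻¹ := by
    rw [mul_inv_rev, ← map_inv, ← map_inv, B.comm]
  rcases hXY with h | h
  · obtain ⟨z, d, hd, d', hd', -, h3, h2, -⟩ := B.exists_z
    have e1 : (tau d hd X⁻¹).1.charpoly = Y.1.charpoly := by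
      rw [charpoly_tau, inv_inv, h]
    have e2 : Irreducible (tau d hd X⁻¹).1.charpoly := by rw [e1]; exact hY
    obtain ⟨g, hg⟩ := exists_gc e2 e1
    obtain ⟨g', hg'⟩ := NS.exists_gc (hC.inv.tau d' hd') hC' (by rw [trace_tau, trace_inv, ht])
    obtain ⟨y, hy3, hy2⟩ := B.gl g g'
    refine ⟨y * z, ?_⟩
    rw [e0, hg, hg', ← hy3, ← hy2, ← h3, ← h2]
    group
  · have e2 : Irreducible (X⁻¹).1.charpoly := by rw [← h]; exact hY
    obtain ⟨g, hg⟩ := exists_gc e2 h.symm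
    obtain ⟨g', hg'⟩ := NS.exists_gc hC.inv hC' (by rw [trace_inv, ht])
    obtain ⟨y, hy3, hy2⟩ := B.gl g g'
    refine ⟨y, ?_⟩
    rw [e0, hg, hg', ← hy3, ← hy2]
    group

/-! ### The `SL₂`-part in characteristic three -/

/-- minus a unipotent element -/
theorem neg_facts {N : SL(2, K)} (h3 : (3 : K) = 0) (hN : (N.1 - 1) * (N.1 - 1) = 0) : (-N) ^ 3 = -1 := by
  apply Subtype.ext
  change (-N.1) ^ 3 = -1
  obtain ⟨M, hM⟩ : ∃ M, M = N.1 - 1 := ⟨_, rfl⟩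
  rw [← hM] at hN
  have e0 : N.1 = M + 1 := by rw [hM, sub_add_cancel]
  have e2 : N.1 ^ 3 = 1 := by
    have e3 : N.1 ^ 3 = (M * M) * M + 3 • (M * M) + 3 • M + 1 := by rw [e0]; noncomm_ring
    have e4 : (3 : ℕ) • M = 0 := by
      rw [← Nat.cast_smul_eq_nsmul K]
      have : ((3 : ℕ) : K) = 0 := by exact_mod_cast h3
      rw [this, zero_smul]
    rw [e3, hN, e4]
    simp
  rw [neg_pow, e2]
  norm_num

/-- **products of two elements of order 6** -/
theorem sl2_three (h3 : (3 : K) = 0) {L U : SL(2, K)} (hL : L ∈ LT 2 K) (hU : U ∈ UT 2 K) :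
    ∃ C C' : SL(2, K), L * U = C * C' ∧ NS C ∧ NS C' ∧ C'.1.trace = C.1.trace ∧ C ^ 3 = -1 ∧ C' ^ 3 = -1 := by
  obtain ⟨c, hc⟩ : ∃ c, L.1 = !![1, 0; c, 1] := by
    refine ⟨L.1 1 0, ?_⟩
    have h := mem_LT.1 hL
    ext i j
    fin_cases i <;> fin_cases j
    · exact h.2 0
    · exact h.1 0 1 (by decide)
    · rfl
    · exact h.2 1
  obtain ⟨b, hb⟩ : ∃ b, U.1 = !![1, b; 0, 1] := by
    refine ⟨U.1 0 1, ?_⟩
    have h := mem_UT.1 hU
    ext i j
    fin_cases i <;> fin_cases j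
    · exact h.2 0
    · rfl
    · exact h.1 1 0 (by decide)
    · exact h.2 1
  have key : ∀ N : SL(2, K), ∀ x y : K, x * y = 0 → N.1 = !![1, x; y, 1] → (x ≠ 0 ∨ y ≠ 0) →
      NS (-N) ∧ (-N).1.trace = -2 ∧ (-N) ^ 3 = -1 := by
    intro N x y hxy hN hne
    have e : (-N).1 = !![-1, -x; -y, -1] := by
      change -N.1 = _
      rw [hN]
      ext i j
      (revert i j; simp only [_root_.Fin.forall_fin_succ, _root_.Matrix.neg_apply, _root_.Matrix.of_apply, _root_.Matrix.cons_val', _root_.Matrix.cons_val_fin_one, Fin.isValue, _root_.Matrix.cons_val_zero, _root_.Matrix.cons_val_succ, _root_.forall_const, _root_.and_self, _root_.implies_true])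
    refine ⟨?_, ?_, neg_facts h3 ?_⟩
    · rw [NS, e]
      rcases hne with h | h
      · exact Or.inr (Or.inl (by simpa using h))
      · exact Or.inl (by simpa using h)
    · rw [e, Matrix.trace_fin_two_of]; ring
    · rw [hN]
      ext i j
      fin_cases i <;> fin_cases j <;> simp [Matrix.mul_apply, Fin.sum_univ_two, hxy, mul_comm y x]
  by_cases hb0 : b = 0
  · by_cases hc0 : c = 0
    · subst hb0 hc0
      have hLU : L * U = 1 := by
        apply Subtype.ext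
        change L.1 * U.1 = 1
        rw [hc, hb, Matrix.mul_fin_two, Matrix.one_fin_two]
        simp
      obtain ⟨N, hN⟩ : ∃ N : SL(2, K), N.1 = !![1, 1; 0, 1] := ⟨uu 1, rfl⟩
      obtain ⟨N', hN'⟩ : ∃ N' : SL(2, K), N'.1 = !![1, -1; 0, 1] := ⟨uu (-1), rfl⟩
      obtain ⟨h1, h2, h4⟩ := key N 1 0 (by simp) hN (Or.inl one_ne_zero)
      obtain ⟨h1', h2', h4'⟩ := key N' (-1) 0 (by simp) hN' (Or.inl (neg_ne_zero.2 one_ne_zero))
      refine ⟨-N, -N', ?_, h1, h1', by rw [h2, h2'], h4, h4'⟩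
      rw [hLU]
      apply Subtype.ext
      change 1 = -N.1 * -N'.1
      rw [hN, hN', neg_mul_neg, Matrix.mul_fin_two, Matrix.one_fin_two]
      simp
    · subst hb0
      have hU1 : U = 1 := Subtype.ext (by rw [hb]; exact Matrix.one_fin_two.symm)
      obtain ⟨N, hN⟩ : ∃ N : SL(2, K), N.1 = !![1, 0; -c, 1] := ⟨vv (-c), rfl⟩
      obtain ⟨h1, h2, h4⟩ := key N 0 (-c) (by simp) hN (Or.inr (neg_ne_zero.2 hc0))
      refine ⟨-N, -N, ?_, h1, h1, rfl, h4, h4⟩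
      rw [hU1, mul_one]
      apply Subtype.ext
      change L.1 = -N.1 * -N.1
      rw [hN, hc, neg_mul_neg, Matrix.mul_fin_two]
      have e1 : -c * 1 + 1 * -c = c := by linear_combination (-c : K) * h3
      rw [e1]
      simp
  · by_cases hc0 : c = 0
    · subst hc0
      have hL1 : L = 1 := Subtype.ext (by rw [hc]; exact Matrix.one_fin_two.symm)
      obtain ⟨N, hN⟩ : ∃ N : SL(2, K), N.1 = !![1, -b; 0, 1] := ⟨uu (-b), rfl⟩
      obtain ⟨h1, h2, h4⟩ := key N (-b) 0 (by simp) hN (Or.inl (neg_ne_zero.2 hb0))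
      refine ⟨-N, -N, ?_, h1, h1, rfl, h4, h4⟩
      rw [hL1, one_mul]
      apply Subtype.ext
      change U.1 = -N.1 * -N.1
      rw [hN, hb, neg_mul_neg, Matrix.mul_fin_two]
      have e1 : 1 * -b + -b * 1 = b := by linear_combination (-b : K) * h3
      rw [e1]
      simp
    · obtain ⟨h1, h2, h4⟩ := key L 0 c (by simp) hc (Or.inr hc0)
      obtain ⟨h1', h2', h4'⟩ := key U b 0 (by simp) hb (Or.inl hb0)
      refine ⟨-L, -U, ?_, h1, h1', by rw [h2, h2'], h4, h4'⟩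
      rw [neg_mul_neg]

end Cfsg.Agent.H903.Ore.F4Conj
end

-- part: H374/Ore/F4
section
/-!
# `F₄(q)`, `q ≥ 3`: commutators and products of four involutions (S2443, S4171)

`J = {0, 2, 3}` (long `A₂` times short `A₁`); `c₁ = φ₃(X) φ₂(C)`, `c₂ = φ₃(Y) φ₂(C')` with `X`, `Y` irreducible.
-/

set_option autoImplicit false
set_option linter.unusedSectionVars false

namespace Cfsg.Agent.H374.Ore.F4

open CoxeterSystem Cfsg.Agent.ChevalleyStructure.CoxeterGeom Cfsg.Agent.Tits.Roots Cfsg.Agent.Tits.Core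
  Cfsg.Agent.Nodes.Reps Cfsg.Agent.Nodes.BNOf Cfsg.Agent.Nodes.RGDLib Cfsg.Agent.Nodes.Bruhat
  Cfsg.Agent.Nodes.OppDec Cfsg.Agent.Nodes.LeviDec Cfsg.Agent.Nodes.KindChev Cfsg.Agent.Nodes.ChevCls
  Cfsg.Agent.OddHalf.NI.ModelChev
  Cfsg.Agent.H162.GaussDec Cfsg.Agent.H162.GaussLevi Cfsg.Agent.H162.GaussSL
  Cfsg.Agent.H162.GaussMain Cfsg.Agent.H162.GaussExc Cfsg.Agent.H162.GaussExcMain
open Cfsg.Lie Cfsg.Agent.ChevalleyStructure Cfsg.Agent.ChevalleyStructure.Elts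
  Cfsg.Agent.ChevalleyStructure.RootVec Cfsg.Agent.ChevalleyStructure.NPerm
  Cfsg.Agent.ChevalleyStructure.CoxeterGeomTypes Cfsg.Agent.Nodes.RGDChev Cfsg.Agent.KFacts.RgdChevCoord
open Cfsg.Agent.FixBN.FieldRGD (uu vv ww)
open Cfsg.Agent.H335.Sr Cfsg.Agent.H903.Ore.F4Conj Cfsg.Agent.H928.Ore.Frame Cfsg.Agent.H928.Ore.Fix
  Cfsg.Agent.H928.Ore.Block Cfsg.Agent.H374.Ore.Nf Cfsg.Agent.H777.Ore
open scoped MatrixGroups

universe u

/-- the product lemma in `SL₃(K)` -/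
def M3 (K : Type u) [Field K] : Prop :=
  ∀ L ∈ LT 3 K, ∀ U ∈ UT 3 K, ∃ A B : SL(3, K), L * U = A * B ∧ Irreducible A.1.charpoly ∧ Irreducible B.1.charpoly ∧
    (B.1.charpoly = A.1.charpoly ∨ B.1.charpoly = (A⁻¹).1.charpoly)

/-- diagonalisation of the irreducible elements -/
def Dg (K : Type u) [Field K] : Prop :=
  ∀ X : SL(3, K), Irreducible X.1.charpoly → ∃ (K' : Type u) (_ : Field K') (_ : Finite K') (ι : K →+* K') (a b : K'ˣ)
    (P : SL(3, K')), Matrix.SpecialLinearGroup.map ι X = P * dg3 a b * P⁻¹ ∧ (a : K') ∉ Set.range ι ∧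
      ((a⁻¹ * b : K'ˣ) : K') ∉ Set.range ι ∧ ((b⁻¹ : K'ˣ) : K') ∉ Set.range ι

/-- the nodes of the Levi subgroup -/
abbrev JF : Set (Fin 4) := {k | k ≠ 1}

/-- the unipotent radical -/
abbrev VF (K : Type u) [Field K] : Subgroup ↥(chevF4.group K) :=
  VJ CoxeterMatrix.F₄.toCoxeterSystem hF.isCartan (XX chevF4 4 K) JF

/-- the opposite unipotent radical -/
abbrev VNF (K : Type u) [Field K] : Subgroup ↥(chevF4.group K) :=
  VNJ CoxeterMatrix.F₄.toCoxeterSystem hF.isCartan (XX chevF4 4 K) JF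

section

variable {K : Type u} [Field K] {φ₃ : SL(3, K) →* ↥(chevF4.group K)} {φ₂ : SL(2, K) →* ↥(chevF4.group K)}

/-- `φ₂` is the rank one group of the node `0` -/
theorem phi2_eq (B : _root_.Cfsg.Agent.H903.Ore.F4Conj.Blk K φ₃ φ₂) : φ₂ = sl hF 0 := by
  refine Cfsg.Agent.H162.GaussReg.hom_ext fun a b hab c => ?_
  have h33 : chevF4.simple ((0 : Fin 4) : ℕ) = 33 := by decide +kernel
  have h14 : chevF4.neg 33 = 14 := by decide +kernel
  have hlt : 33 < chevF4.nroots := by decide +kernel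
  rw [B.h₂]
  fin_cases a <;> fin_cases b
  · exact absurd rfl hab
  · rw [one_mul]
    refine Eq.trans ?_ (congrArg (sl hF 0) (tv_uu (F := K) (by decide) c)).symm
    rw [sl_uu, ← vec_simple hF 0, h33]
    rfl
  · rw [one_mul]
    refine Eq.trans ?_ (congrArg (sl hF 0) (tv_vv (F := K) (by decide) c)).symm
    rw [sl_vv, ← vec_simple hF 0, h33, ← vec_neg hF hlt, h14]
    rfl
  · exact absurd rfl hab

theorem tabF : (∀ a b, a ≠ b → ∀ k : Fin 4, k ∉ JF → vec chevF4 4 (r3 a b) k = 0) ∧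
    (∀ a b, a ≠ b → chevF4.cartan 0 (r3 a b) = 0) ∧
    (∀ s < chevF4.nroots, vec chevF4 4 s 1 ≠ 0 →
      (chevF4.cartan 3 s = 0 ∧ chevF4.cartan 2 s = 0 ∧ (chevF4.cartan 0 s = 1 ∨ chevF4.cartan 0 s = -1)) ∨
        Wt (chevF4.cartan 3 s) (chevF4.cartan 2 s)) ∧ r3 0 1 = chevF4.simple 3 ∧ r3 1 2 = chevF4.simple 2 := by
  refine ⟨fun a b hab k hk => ?_, by decide +kernel, by decide +kernel, by decide +kernel, by decide +kernel⟩
  have : k = 1 := by simpa using hk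
  subst this
  exact rJ.1 a b hab

end

section

variable {K : Type u} [Field K] {φ₃ : SL(3, K) →* ↥(chevF4.group K)} {φ₂ : SL(2, K) →* ↥(chevF4.group K)}

/-! ### Fixed points -/

theorem prod_mulSingle (ρ : Kˣ) (s : ℕ) : ∏ k : Fin 4, (((Pi.mulSingle 0 ρ : Fin 4 → Kˣ) k : Kˣ) : K) ^ chevF4.cartan k s =
    (ρ : K) ^ chevF4.cartan 0 s := by
  rw [Finset.prod_eq_single (0 : Fin 4)]
  · rw [Pi.mulSingle_eq_same]
    rfl
  · intro k _ hk
    rw [Pi.mulSingle_eq_of_ne hk, Units.val_one, _root_.one_zpow]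
  · intro h
    exact absurd (Finset.mem_univ _) h

theorem nf_s0 (B : _root_.Cfsg.Agent.H903.Ore.F4Conj.Blk K φ₃ φ₂) {ρ : Kˣ} (hρ : ρ ≠ 1) {K' : Type u} [Field K'] [Finite K'] (ι : K →+* K') {X : SL(3, K)}
    {a b : K'ˣ} {P : SL(3, K')} (hX : Matrix.SpecialLinearGroup.map ι X = P * dg3 a b * P⁻¹)
    (h1 : (a : K') ∉ Set.range ι) (h2 : ((a⁻¹ * b : K'ˣ) : K') ∉ Set.range ι)
    (h3 : ((b⁻¹ : K'ˣ) : K') ∉ Set.range ι) :
    NF (VF K) (th hF (Pi.mulSingle 0 ρ) * φ₃ X) ∧ NF (VNF K) (th hF (Pi.mulSingle 0 ρ) * φ₃ X) := by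
  obtain ⟨φ₃', φ₂', B'⟩ := exists_blk K'
  obtain ⟨t1, t2, t3, t4, t5⟩ := tabF
  have hρ' : (ρ : K) ≠ 1 := fun h => hρ (Units.ext h)
  refine nf_dg hF ι (ε := 1) (by norm_num) rt3.1 rt3.2.2.2 (φ := φ₃) (fun a b hab c => ?_) (φ' := φ₃')
    (fun a b hab c => ?_) (i := 3) (j := 2) t4 t5 (J := JF) t1 (σ := Pi.mulSingle 0 ρ) (fun a b hab => ?_)
    (fun s hs hk => ?_) hX h1 h2 h3
  · rw [B.h₃, Int.cast_one]
  · rw [B'.h₃, Int.cast_one]
  · rw [prod_mulSingle]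
    have := t2 a b hab
    rw [this, zpow_zero]
  · obtain ⟨k, hk1, hk2⟩ := hk
    have : k = 1 := by simpa using hk1
    subst this
    rcases t3 s hs hk2 with ⟨e1, e2, e3⟩ | h
    · refine Or.inl ⟨e1, e2, ?_⟩
      rw [prod_mulSingle]
      rcases e3 with e3 | e3
      · rw [e3, zpow_one]
        exact hρ'
      · rw [e3, zpow_neg_one]
        intro h
        exact hρ' (inv_eq_one.1 h)
    · exact Or.inr h

/-- the elements `C` which are allowed -/
def Ok (φ₃ : SL(3, K) →* ↥(chevF4.group K)) (φ₂ : SL(2, K) →* ↥(chevF4.group K)) (C : SL(2, K)) : Prop :=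
  ∀ X : SL(3, K), Irreducible X.1.charpoly → NF (VF K) (φ₃ X * φ₂ C) ∧ NF (VNF K) (φ₃ X * φ₂ C)

/-- diagonal matrices -/
def dm (ρ : Kˣ) : SL(2, K) := Cfsg.Agent.FixBN.FieldRGD.dd (ρ : K) ρ.ne_zero

theorem phi2_dm (B : _root_.Cfsg.Agent.H903.Ore.F4Conj.Blk K φ₃ φ₂) (ρ : Kˣ) : φ₂ (dm ρ) = th hF (Pi.mulSingle 0 ρ) := by
  rw [th_mulSingle, phi2_eq B]
  rfl

theorem ok_of_cube [Finite K] (hK : Nat.card K = 3) (hD : Dg K) (B : _root_.Cfsg.Agent.H903.Ore.F4Conj.Blk K φ₃ φ₂) {C : SL(2, K)} (hC : C ^ 3 = -1) :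
    Ok φ₃ φ₂ C := by
  intro X hX
  have : Fact (Nat.Prime 3) := ⟨Nat.prime_three⟩
  obtain ⟨hch, hall⟩ := Cfsg.Agent.H374.Ore.Sl3.exists_cast hK
  obtain ⟨K', i1, i2, ι, a, b, P, e, h1, h2, h3⟩ := hD X hX
  have hch' : CharP K' 3 := charP_of_injective_ringHom ι.injective 3
  have hcube : ∀ k : K, k ^ 3 = k := by
    intro k
    have := Fintype.ofFinite K
    have h := FiniteField.pow_card k
    rwa [← Nat.card_eq_fintype_card, hK] at h
  have key : ∀ x : K', x ∉ Set.range ι → x ^ 3 ∉ Set.range ι := by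
    rintro x hx ⟨k, hk⟩
    refine hx ⟨k, ?_⟩
    have h4 : (ι k - x) ^ 3 = 0 := by
      rw [sub_pow_char, ← hk, ← map_pow, hcube, sub_self]
    exact sub_eq_zero.1 (pow_eq_zero_iff (by norm_num) |>.1 h4)
  have e3 : Matrix.SpecialLinearGroup.map ι (X ^ 3) = P * dg3 (a ^ 3) (b ^ 3) * P⁻¹ := by
    have e4 : dg3 (a ^ 3) (b ^ 3) = dg3 a b ^ 3 := by
      apply Subtype.ext
      change Matrix.diagonal _ = (Matrix.diagonal ![(a : K'), ((a⁻¹ * b : K'ˣ) : K'), ((b⁻¹ : K'ˣ) : K')]) ^ 3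
      rw [Matrix.diagonal_pow]
      congr 1
      funext i
      (revert i; simp only [mul_pow, _root_.Fin.forall_fin_succ, _root_.Nat.succ_eq_add_one, Nat.reduceAdd, _root_.Units.val_pow_eq_pow_val, _root_.Units.val_mul, _root_.Units.val_inv_eq_inv_val, _root_.Pi.pow_apply, Fin.isValue, _root_.Matrix.cons_val_zero, _root_.Matrix.cons_val_succ, _root_.inv_pow, _root_.Matrix.cons_val_fin_one, _root_.implies_true, _root_.and_self])
    rw [map_pow, e, conj_pow, e4]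
  have hne : (-1 : Kˣ) ≠ 1 := by
    intro h
    have h5 : (-1 : K) = 1 := congrArg Units.val h
    have h6 : (2 : K) = 0 := by linear_combination -h5
    have h7 : (3 : K) = 0 := by
      have := CharP.cast_eq_zero K 3
      exact_mod_cast this
    have h8 : (1 : K) = 0 := by linear_combination h7 - h6
    exact one_ne_zero h8
  obtain ⟨n1, n2⟩ := nf_s0 B hne ι e3 (by rw [Units.val_pow_eq_pow_val]; exact key _ h1)
    (by
      have : (a ^ 3)⁻¹ * b ^ 3 = (a⁻¹ * b) ^ 3 := by rw [mul_pow, inv_pow]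
      rw [this, Units.val_pow_eq_pow_val]; exact key _ h2)
    (by rw [← inv_pow, Units.val_pow_eq_pow_val]; exact key _ h3)
  have e5 : (φ₃ X * φ₂ C) ^ 3 = th hF (Pi.mulSingle 0 (-1)) * φ₃ (X ^ 3) := by
    have c1 : Commute (φ₃ X) (φ₂ C) := B.comm X C
    have h9 : (-1 : SL(2, K)) = dm (-1) := by
      apply Subtype.ext
      change -1 = !![((-1 : Kˣ) : K), 0; 0, ((-1 : Kˣ) : K)⁻¹]
      ext i j
      (revert i j; simp only [_root_.Fin.forall_fin_succ, _root_.Matrix.neg_apply, _root_.Units.val_neg, _root_.Units.val_one, _root_.inv_neg, _root_.inv_one, _root_.Matrix.of_apply, _root_.Matrix.cons_val', _root_.Matrix.cons_val_fin_one, Fin.isValue, _root_.Matrix.cons_val_zero, _root_.Matrix.cons_val_succ, _root_.IsEmpty.forall_iff, _root_.and_true, _root_.Matrix.one_apply_eq, Nat.reduceAdd, _root_.Fin.succ_zero_eq_one, _root_.ne_eq, _root_.zero_ne_one, _root_.not_false_eq_true, _root_.Matrix.one_apply_ne,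 _root_.neg_zero, _root_.and_self, _root_.Fin.succ_ne_zero, _root_.neg_inj, _root_.true_and])
    rw [c1.mul_pow, ← map_pow, ← map_pow, hC, h9, B.comm, phi2_dm B]
  rw [← e5] at n1 n2
  exact ⟨fun x hx hc => n1 x hx (Cfsg.Agent.H162.GaussMain.conj_pow_fix hc 3),
    fun x hx hc => n2 x hx (Cfsg.Agent.H162.GaussMain.conj_pow_fix hc 3)⟩

/-! ### The involutions -/

/-- symmetric intertwiners of determinant `-1` -/
theorem symm2 {C : SL(2, K)} (h : NS C) : ∃ H : Matrix (Fin 2) (Fin 2) K, H.transpose = H ∧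
    C.1.transpose * H = H * C.1 ∧ H.det = -1 := by
  obtain ⟨g, hg⟩ := h.exists_comp
  obtain ⟨t, ht⟩ : ∃ t, t = C.1.trace := ⟨_, rfl⟩
  rw [← ht] at hg
  have e1 : g.1 * (g⁻¹).1 = 1 := by rw [← Units.val_mul, mul_inv_cancel, Units.val_one]
  have e2 : (g⁻¹).1 * g.1 = 1 := by rw [← Units.val_mul, inv_mul_cancel, Units.val_one]
  obtain ⟨G, hG⟩ : ∃ G, G = g.1 := ⟨_, rfl⟩
  obtain ⟨G', hG'⟩ : ∃ G', G' = (g⁻¹).1 := ⟨_, rfl⟩
  rw [← hG, ← hG'] at e1 e2
  rw [← hG] at hg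
  obtain ⟨m, hm⟩ : ∃ m : Matrix (Fin 2) (Fin 2) K, m = !![0, -1; 1, t] := ⟨_, rfl⟩
  obtain ⟨H, hH⟩ : ∃ H : Matrix (Fin 2) (Fin 2) K, H = !![1, 0; 0, -1] := ⟨_, rfl⟩
  rw [← hm] at hg
  have hHt : H.transpose = H := by
    rw [hH]
    ext i j
    (revert i j; simp only [_root_.Fin.forall_fin_succ, _root_.Matrix.transpose_apply, _root_.Matrix.of_apply, _root_.Matrix.cons_val', _root_.Matrix.cons_val_fin_one, Fin.isValue, _root_.Matrix.cons_val_zero, _root_.Matrix.cons_val_succ, _root_.forall_const, _root_.and_self, _root_.implies_true])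
  have hmH : m.transpose * H = H * m := by
    rw [hm, hH]
    ext i j
    (revert i j; simp only [Matrix.mul_apply, Fin.sum_univ_two, _root_.Fin.forall_fin_succ, _root_.Matrix.transpose_apply, _root_.Matrix.of_apply, _root_.Matrix.cons_val', _root_.Matrix.cons_val_fin_one, Fin.isValue, _root_.Matrix.cons_val_zero, _root_.Matrix.cons_val_one, _root_.mul_one, _root_.MulZeroClass.mul_zero, _root_.add_zero, _root_.zero_add, _root_.Matrix.cons_val_succ, _root_.mul_neg, _root_.forall_const, _root_.MulZeroClass.zero_mul, _root_.and_self, _root_.neg_zero, _root_.neg_mul, _root_.one_mul, _root_.implies_true])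
  have hHd : H.det = -1 := by rw [hH, Matrix.det_fin_two_of]; ring
  have hC : C.1 = G * m * G' := by
    calc C.1 = C.1 * (G * G') := by rw [e1, Matrix.mul_one]
      _ = (C.1 * G) * G' := by rw [Matrix.mul_assoc]
      _ = _ := by rw [hg]
  refine ⟨G.det • (G'.transpose * H * G'), ?_, ?_, ?_⟩
  · rw [Matrix.transpose_smul, Matrix.transpose_mul, Matrix.transpose_mul, Matrix.transpose_transpose, hHt,
      Matrix.mul_assoc]
  · rw [Matrix.mul_smul, Matrix.smul_mul, hC]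
    (with_reducible congr 1)
    rw [Matrix.transpose_mul, Matrix.transpose_mul]
    calc G'.transpose * (m.transpose * G.transpose) * (G'.transpose * H * G')
        = G'.transpose * (m.transpose * (G.transpose * G'.transpose) * H * G') := by simp only [Matrix.mul_assoc]
      _ = G'.transpose * ((m.transpose * H) * G') := by
        rw [← Matrix.transpose_mul, e2, Matrix.transpose_one, Matrix.mul_one]
      _ = G'.transpose * (H * (G' * G) * m * G') := by rw [hmH, e2, Matrix.mul_one]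
      _ = _ := by simp only [Matrix.mul_assoc]
  · rw [Matrix.det_smul, Matrix.det_mul, Matrix.det_mul, Matrix.det_transpose, hHd, Fintype.card_fin]
    have e3 : G.det * G'.det = 1 := by rw [← Matrix.det_mul, e1, Matrix.det_one]
    linear_combination (-(G.det * G'.det + 1)) * e3

/-- **the involution** -/
theorem exists_inv [Finite K] (B : _root_.Cfsg.Agent.H903.Ore.F4Conj.Blk K φ₃ φ₂) {X : SL(3, K)} (hX : Irreducible X.1.charpoly) {C : SL(2, K)}
    (hC : NS C) : ∃ y : ↥(chevF4.group K), y * y = 1 ∧ y * (φ₃ X * φ₂ C) * y⁻¹ = (φ₃ X * φ₂ C)⁻¹ := by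
  obtain ⟨w, z, hw, Z⟩ := zF4 K hF CoxeterMatrix.F₄.toCoxeterSystem (fun _ => 1) (fun _ => .inl rfl)
  obtain ⟨d, hd, h3⟩ := Z.block (n := 1) (r := r3) (s := fun _ _ => 1) (φ := φ₃) rt3.1 rt3.2.2.2
    (fun a b hab => hw _) (fun _ _ _ => one_mul 1) B.h₃
  obtain ⟨d', hd', h2⟩ := Z.block (n := 0) (r := r2) (s := fun _ _ => 1) (φ := φ₂) rt2.1 rt2.2
    (fun a b hab => hw _) (fun _ _ _ => one_mul 1) B.h₂
  have hdd : d' 0 * d' 1 = -1 := by
    have hi := _root_.Cfsg.Agent.ChevalleyStructure.NPerm.simple_lt hF.inList (lt_rank hF 0)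
    have hn : chevF4.neg (chevF4.simple (0 : Fin 4)) < chevF4.nroots := _root_.Cfsg.Agent.ChevalleyStructure.NPerm.neg_lt hF.inList hi
    have e1 := h2 (Matrix.SpecialLinearGroup.transvection (show (0 : Fin 2) ≠ 1 by decide) 1)
    rw [tau_transvection, phi2_eq B, tv_uu, tv_vv, sl_uu, sl_vv, Z.pos] at e1
    change xc hF (-sr 0) _ = xc hF (-sr 0) _ at e1
    rw [← vec_simple hF 0, ← vec_neg hF hi] at e1
    have e2 := xc_inj hF hn e1
    push_cast at e2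
    linear_combination e2
  obtain ⟨H3, a1, a2, a3⟩ := exists_symm X.1 hX (∏ a, d a)
  obtain ⟨S, s1, s2⟩ := exists_S hd X a1 a2 a3
  obtain ⟨H2, b1, b2, b3⟩ := symm2 hC
  obtain ⟨S', s1', s2'⟩ := exists_S hd' C b1 b2 (by rw [b3, Fin.prod_univ_two, hdd])
  obtain ⟨i1, i2⟩ := invol Z.sq h3 s1 s2
  obtain ⟨j1, j2⟩ := invol Z.sq h2 s1' s2'
  obtain ⟨k1, k2⟩ := combine Z.sq i1 j1 (B.comm S S') (B.comm X S').symm (B.comm S C) (B.comm X C) i2 j2
  exact ⟨_, k1, k2⟩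

/-! ### The main theorems -/

/-- an element inverted by an element of square one is a product of two such elements -/
theorem two_of_inv {Y : Type*} [Group Y] {c y : Y} (hy : y * y = 1) (h : y * c * y⁻¹ = c⁻¹) :
    ∃ a b : Y, a ^ 2 = 1 ∧ b ^ 2 = 1 ∧ c = a * b := by
  have hyi : y⁻¹ = y := inv_eq_of_mul_eq_one_left hy
  refine ⟨c * y, y, ?_, by rw [pow_two, hy], by rw [mul_assoc, hy, mul_one]⟩
  rw [pow_two]
  calc c * y * (c * y) = c * (y * c * y⁻¹) * (y * y) := by group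
    _ = 1 := by rw [h, hy]; group

/-- the product lemma in `SL₂(K)` -/
def M2 (φ₃ : SL(3, K) →* ↥(chevF4.group K)) (φ₂ : SL(2, K) →* ↥(chevF4.group K)) : Prop :=
  ∀ L ∈ LT 2 K, ∀ U ∈ UT 2 K, ∃ C C' : SL(2, K), L * U = C * C' ∧ NS C ∧ NS C' ∧ C'.1.trace = C.1.trace ∧
    Ok φ₃ φ₂ C ∧ Ok φ₃ φ₂ C'

theorem base [Finite K] (B : _root_.Cfsg.Agent.H903.Ore.F4Conj.Blk K φ₃ φ₂) (h3 : M3 K) (h2 : M2 φ₃ φ₂)
    {v u : ↥(chevF4.group K)} (hv : v ∈ UNJ CoxeterMatrix.F₄.toCoxeterSystem hF.isCartan (XX chevF4 4 K) JF)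
    (hu : u ∈ UJ CoxeterMatrix.F₄.toCoxeterSystem hF.isCartan (XX chevF4 4 K) JF) :
    ∃ c₁ c₂, v * u = c₁ * c₂ ∧ LP CoxeterMatrix.F₄.toCoxeterSystem hF.isCartan (TT chevF4 K) (XX chevF4 4 K) JF c₁ c₂ ∧
      (∃ y, c₂ = y * c₁⁻¹ * y⁻¹) ∧ (∃ a b : ↥(chevF4.group K), a ^ 2 = 1 ∧ b ^ 2 = 1 ∧ c₁ = a * b) ∧
      ∃ a b : ↥(chevF4.group K), a ^ 2 = 1 ∧ b ^ 2 = 1 ∧ c₂ = a * b := by
  obtain ⟨A₁, hA₁, C₁, hC₁, rfl⟩ := B.mem_UNJ hv
  obtain ⟨A₂, hA₂, C₂, hC₂, rfl⟩ := B.mem_UJ hu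
  obtain ⟨X, Y, e3, hX, hY, hXY⟩ := h3 _ hA₁ _ hA₂
  obtain ⟨C, C', e2, n1, n2, ht, o1, o2⟩ := h2 _ hC₁ _ hC₂
  refine ⟨φ₃ X * φ₂ C, φ₃ Y * φ₂ C', ?_, ⟨mul_mem (B.mem₃ _) (B.mem₂ _), mul_mem (B.mem₃ _) (B.mem₂ _), (o1 X hX).2,
    (o2 Y hY).1⟩, B.conj hX hY hXY n1 n2 ht, ?_, ?_⟩
  · have c1 := B.comm A₂ C₁
    have c2 := B.comm Y C
    calc φ₃ A₁ * φ₂ C₁ * (φ₃ A₂ * φ₂ C₂) = φ₃ A₁ * (φ₂ C₁ * φ₃ A₂) * φ₂ C₂ := by group
      _ = φ₃ (A₁ * A₂) * φ₂ (C₁ * C₂) := by rw [← c1, map_mul, map_mul]; group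
      _ = φ₃ X * (φ₃ Y * φ₂ C) * φ₂ C' := by rw [e3, e2, map_mul, map_mul]; group
      _ = _ := by rw [c2]; group
  · obtain ⟨y, hy, h⟩ := exists_inv B hX n1
    exact two_of_inv hy h
  · obtain ⟨y, hy, h⟩ := exists_inv B hY n2
    exact two_of_inv hy h

/-- **`F₄(q)` from the product lemmas.** -/
theorem main [Finite K] (hs : IsSimpleGroup ↥(chevF4.group K)) (B : _root_.Cfsg.Agent.H903.Ore.F4Conj.Blk K φ₃ φ₂) (h3 : M3 K) (h2 : M2 φ₃ φ₂) :
    AllC ↥(chevF4.group K) ∧ Inv4 ↥(chevF4.group K) := by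
  obtain ⟨p, hpc⟩ := CharP.exists K
  have : Fact p.Prime := ⟨(CharP.char_is_prime_or_zero K p).resolve_right (CharP.char_ne_zero_of_finite K p)⟩
  have R := rgd (K := K) hF CoxeterMatrix.F₄.toCoxeterSystem p
  have := finite_W hF CoxeterMatrix.F₄.toCoxeterSystem
  have hcore : ∀ g : ↥(chevF4.group K), g ≠ 1 → g ∉ (RGD.B CoxeterMatrix.F₄.toCoxeterSystem hF.isCartan (TT chevF4 K)
      (XX chevF4 4 K)).normalCore := by
    intro g hg h
    have h1 := core_le_ker R (MonoidHom.id _) Function.surjective_id (fun x hx => by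
      rw [MonoidHom.mem_ker] at hx
      change x = 1 at hx
      rw [hx]
      exact one_mem _) h
    exact hg h1
  have hG := G1_eq_top hF (K := K) CoxeterMatrix.F₄.toCoxeterSystem
  have hconn := Cfsg.Agent.Nodes.ChevChart.irr_of Cfsg.Agent.Nodes.ChevChart.irrF
  constructor
  · intro g
    by_cases hg : g = 1
    · exact ⟨1, 1, by rw [hg]; group⟩
    · exact comm R hG (coord hF) hconn (fun v hv u hu => by
        obtain ⟨c₁, c₂, e1, e2, e3, -, -⟩ := base B h3 h2 hv hu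
        exact ⟨c₁, c₂, e1, e2, e3⟩) (hcore g hg)
  · intro g
    by_cases hg : g = 1
    · exact ⟨1, 1, 1, 1, by group, by group, by group, by group, by rw [hg]; group⟩
    · obtain ⟨a, b, c, d, h1, h2, h3, h4, e⟩ := four R hG (coord hF) hconn (fun v hv u hu => by
        obtain ⟨c₁, c₂, e1, e2, -, e4, e5⟩ := base B h3 h2 hv hu
        exact ⟨c₁, c₂, e1, e2, e4, e5⟩) (hcore g hg)
      rw [pow_two] at h1 h2 h3 h4
      exact ⟨a, b, c, d, h1, h2, h3, h4, e⟩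

end

/-! ### The product lemmas in `SL₂(K)` -/

section

variable {K : Type u} [Field K] {φ₃ : SL(3, K) →* ↥(chevF4.group K)} {φ₂ : SL(2, K) →* ↥(chevF4.group K)}

theorem m2_three [Finite K] (hK : Nat.card K = 3) (hD : Dg K) (B : _root_.Cfsg.Agent.H903.Ore.F4Conj.Blk K φ₃ φ₂) : M2 φ₃ φ₂ := by
  intro L hL U hU
  have : Fact (Nat.Prime 3) := ⟨Nat.prime_three⟩
  obtain ⟨hch, hall⟩ := Cfsg.Agent.H374.Ore.Sl3.exists_cast hK
  have h3 : (3 : K) = 0 := by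
    have := CharP.cast_eq_zero K 3
    exact_mod_cast this
  obtain ⟨C, C', e, n1, n2, ht, k1, k2⟩ := sl2_three h3 hL hU
  exact ⟨C, C', e, n1, n2, ht, ok_of_cube hK hD B k1, ok_of_cube hK hD B k2⟩

end

/-! ### The rows -/

section

variable {K : Type u} [Field K] [Finite K]

theorem dg_all : Dg K := by
  intro X hX
  obtain ⟨K', i1, i2, ι, a, b, P, e, h1, h2, h3⟩ := Cfsg.Agent.H194.Ore.exists_dg3 hX
  exact ⟨K', i1, i2, ι, a, b, P, e, fun ⟨c, hc⟩ => h1 c hc, fun ⟨c, hc⟩ => h2 c hc, fun ⟨c, hc⟩ => h3 c hc⟩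

/-- **`F₄(3)`.** -/
theorem row_three (hK : Nat.card K = 3) : AllC ↥(chevF4.group K) ∧ Inv4 ↥(chevF4.group K) := by
  obtain ⟨φ₃, φ₂, B⟩ := exists_blk K
  exact main (Cfsg.Agent.S1054.result chevF4 (by simp)).1 B
    (fun L hL U hU => Cfsg.Agent.H374.Ore.Sl3.m3 (.inr hK) hL hU) (m2_three hK dg_all B)

end

end Cfsg.Agent.H374.Ore.F4
end

private theorem dce_56bb394557dd : _root_.True := by
  try have : _root_.True := by simp only [_root_.Cfsg.Agent.H903.Ore.F4Conj.NS.eq_1]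
  exact _root_.True.intro
end

-- part: H143/Ore/TwF
section
prune_inst 0x202004000100000000008500000020440200050000230801594000000586930000000700f0800800000082044038804000000050001000002000800001190080942952061310a000260007009004000000000000000000000000000000041000000000000
set_option linter.all false
open scoped Cfsg.Agent.FastGrp

/-!
# Ore's property and four involutions for `²F₄(q)` and the Tits group (helper143)

The covering class of `H84` (S2463) is strongly real: `x = s h`, `s` of order 5 in the Suzuki Levi subgroup, inverted by an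
involution `i` of it, `h` in the torus of the orthogonal Suzuki subgroup, inverted by its reflection.
-/

set_option autoImplicit false
set_option linter.unusedSectionVars false

namespace Cfsg.Agent.H143.Ore

open Cfsg Cfsg.Agent.H538.Ore Cfsg.Agent.H777.Ore

/-! ### Suzuki groups -/

section Sz

open Cfsg.Agent.LieRecognition.SzMatrix

/-- In a Suzuki group there is an element `s` of order five, inverted by an involution, such that each element is a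
product of two conjugates of `s`. -/
theorem sz_cover {P : Type*} [Group P] (h : Lie.IsoSuzuki P) : ∃ s : P, s ^ 5 = 1 ∧ SR s ∧
    ∀ l : P, ∃ a b : P, l = (a * s * a⁻¹) * (b * s * b⁻¹) := by
  obtain ⟨F, _, _, m, hm, hF, ⟨f⟩⟩ := h
  have hfin : Finite ↥(Cfsg.Lie.Sz F (2 ^ (m + 1))) := inferInstance
  have h5 : Fact (Nat.Prime 5) := ⟨by norm_num⟩
  have hcard := (Cfsg.Agent.S1163.result hm hF).1
  have hdvd : 5 ∣ Nat.card ↥(Cfsg.Lie.Sz F (2 ^ (m + 1))) := by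
    rw [hcard]; exact dvd_mul_of_dvd_right (Cfsg.Agent.H84.SzLevi.five_dvd m) _
  obtain ⟨x, hx⟩ := exists_prime_orderOf_dvd_card' 5 hdvd
  have hx1 : x ≠ 1 := by
    rintro rfl
    rw [orderOf_one] at hx
    omega
  have hreal : ∃ i, i * i = 1 ∧ i * x * i = x⁻¹ := by
    rcases Cfsg.Agent.H147.Sz.real hm hF x hx1 with ⟨-, i, -, hi, h⟩ | ⟨a, b, h⟩
    · exact ⟨i, hi, h⟩
    · exfalso
      obtain ⟨c, hc⟩ := isConj_iff.1 h
      have h4 : (good hF).u a b ^ 4 = 1 := by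
        rw [Cfsg.Agent.H84.SzLevi.four_eq, Cfsg.Agent.H147.Sz.u_sq, Cfsg.Agent.H147.Sz.u_sq, zero_mul,
          (good hF).u_zero]
      rw [← hc, conj_pow] at h4
      have h5 : x ^ 4 = 1 := by
        have e : x ^ 4 = c⁻¹ * (c * x ^ 4 * c⁻¹) * c := by group
        rw [e, h4]; group
      have h6 := orderOf_dvd_of_pow_eq_one h5
      rw [hx] at h6
      omega
  obtain ⟨i, hi, hxi⟩ := hreal
  have hii : i⁻¹ = i := inv_eq_of_mul_eq_one_left hi
  have key : ∀ l : ↥(Cfsg.Lie.Sz F (2 ^ (m + 1))), ∃ a b, l = (a * x * a⁻¹) * (b * x * b⁻¹) := by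
    intro l
    by_cases hl : l = 1
    · refine ⟨1, i, ?_⟩
      rw [hl, hii, hxi]; group
    · exact Cfsg.Agent.S2457.result m hm hF x (by rw [hx]; norm_num) l hl
  refine ⟨f.symm x, ?_, ⟨f.symm i, ?_, ?_⟩, ?_⟩
  · rw [← map_pow, ← hx, pow_orderOf_eq_one, map_one]
  · rw [← map_mul, hi, map_one]
  · rw [← map_inv, ← map_mul, ← map_mul, hii, hxi, map_inv]
  · intro l
    obtain ⟨a, b, hab⟩ := key (f l)
    refine ⟨f.symm a, f.symm b, ?_⟩
    have := congrArg f.symm hab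
    simpa using this

end Sz

/-! ### the Levi subgroup of `²F₄(q)` -/

section Full

open Cfsg.Agent.SplitTwo Cfsg.Agent.SplitTwo.ZS Cfsg.Agent.TitsThree.RankTwoZ
open Cfsg.Agent.KFacts.TwF4 Cfsg.Agent.KFacts.TwF4.Arc Cfsg.Agent.KFacts.TwF4.Inv
open Cfsg.Agent.H84.TwF4Two Cfsg.Agent.H67.TwFFourOdd Cfsg.Agent.H67.RankTwo Cfsg.Agent.H67.RankOneId
open Cfsg.Agent.H84.GaussTwF4

universe u

variable {F : Type*} [Field F] {σ : F →+* F} {G : Type u} [Group G] (S : Full σ G)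

theorem LL_cover [Finite F] [Finite G] {k : ℕ} (hk : 2 ≤ k) (hF : Nat.card F = 2 ^ k) : ∃ s ∈ LL S, s ^ 5 = 1 ∧
    (∃ i ∈ LL S, i * i = 1 ∧ i * s * i⁻¹ = s⁻¹) ∧
    ∀ l ∈ LL S, ∃ a ∈ LL S, ∃ b ∈ LL S, l = (a * s * a⁻¹) * (b * s * b⁻¹) := by
  have h := LL_iso S hk hF
  rw [LJ_eq] at h
  obtain ⟨s, hs, ⟨i, hi, his⟩, hc⟩ := sz_cover h
  refine ⟨s, s.2, congrArg Subtype.val hs, ⟨i, i.2, congrArg Subtype.val hi, congrArg Subtype.val his⟩, fun l hl => ?_⟩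
  obtain ⟨a, b, hab⟩ := hc ⟨l, hl⟩
  exact ⟨a, a.2, b, b.2, congrArg Subtype.val hab⟩

/-- the reflection orthogonal to the Levi subgroup -/
def np : G := S.n1 * (S.n2 * (S.n1 * (S.n2 * (S.n1 * (S.n2 * S.n1)))))

theorem pal7 {H : Type*} [Group H] {n m : H} (hn : n * n = 1) (hm : m * m = 1) :
    n * (m * (n * (m * (n * (m * n))))) * (n * (m * (n * (m * (n * (m * n)))))) = 1 := by
  have hn' : ∀ x, n * (n * x) = x := fun x => by rw [← mul_assoc, hn, one_mul]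
  have hm' : ∀ x, m * (m * x) = x := fun x => by rw [← mul_assoc, hm, one_mul]
  simp only [mul_assoc, hn', hm', hn]

theorem np_sq : np S * np S = 1 := pal7 S.n1_sq S.n2_sq

theorem np_e (a : ZMod 8) (p u : F) : np S * S.e a p u * (np S)⁻¹ = S.e (-a) p u := by
  have h1 := S.n1_e
  have h2 := S.n2_e
  have e : np S * S.e a p u * (np S)⁻¹ = S.n1 * (S.n2 * (S.n1 * (S.n2 * (S.n1 * (S.n2 * (S.n1 * S.e a p u * S.n1⁻¹) *
      S.n2⁻¹) * S.n1⁻¹) * S.n2⁻¹) * S.n1⁻¹) * S.n2⁻¹) * S.n1⁻¹ := by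
    unfold np; group
  rw [e, h1, h2, h1, h2, h1, h2, h1]
  have : ∀ a : ZMod 8, 5 - (4 - (5 - (4 - (5 - (4 - (5 - a)))))) = -a := by decide
  rw [this]

theorem np_comm {x : G} (hx : x ∈ LL S) : np S * x = x * np S := by
  have : LL S ≤ Subgroup.centralizer {np S} := by
    refine sup_le ?_ ?_
    · intro y hy
      obtain ⟨p, u, rfl⟩ := (S.mem_XZ_even 4 y).1 hy
      rw [Subgroup.mem_centralizer_singleton_iff]
      have h := np_e S 4 p u
      rw [show (-4 : ZMod 8) = 4 by decide] at h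
      exact (mul_inv_eq_iff_eq_mul.1 h).symm
    · intro y hy
      obtain ⟨p, u, rfl⟩ := (S.mem_XZ_even 0 y).1 hy
      rw [Subgroup.mem_centralizer_singleton_iff]
      have h := np_e S 0 p u
      rw [neg_zero] at h
      exact (mul_inv_eq_iff_eq_mul.1 h).symm
  exact (Subgroup.mem_centralizer_singleton_iff.1 (this hx)).symm

theorem np_h (d : Fˣ) : np S * S.h 1 d * (np S)⁻¹ = S.h 1 d⁻¹ := by
  have h1 := S.n1_h
  have h2 := S.n2_h
  have hs : Units.map (σ : F →* F) (Units.map (σ : F →* F) d) = d * d := by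
    ext
    have := S.sq d
    rw [pow_two] at this
    simpa using this
  have e : np S * S.h 1 d * (np S)⁻¹ = S.n1 * (S.n2 * (S.n1 * (S.n2 * (S.n1 * (S.n2 * (S.n1 * S.h 1 d * S.n1⁻¹) *
      S.n2⁻¹) * S.n1⁻¹) * S.n2⁻¹) * S.n1⁻¹) * S.n2⁻¹) * S.n1⁻¹ := by
    unfold np; group
  rw [e, h1, h2, h1, h2, h1, h2, h1]
  congr 1
  · simp only [hs, _root_.inv_one, _root_.map_inv, _root_.div_inv_eq_mul, _root_.one_mul, _root_.inv_inv, _root_.mul_inv_rev, _root_.div_mul_cancel_right, _root_.div_self']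
  · simp only [hs, _root_.inv_inv, _root_.inv_one, _root_.map_inv, _root_.div_inv_eq_mul, _root_.one_mul, _root_.mul_inv_rev, _root_.div_mul_cancel_right]

/-- the class of `s h 1 d` is strongly real -/
theorem sr_of {s i : G} (hs : s ∈ LL S) (hi : i ∈ LL S) (hii : i * i = 1) (his : i * s * i⁻¹ = s⁻¹) (d : Fˣ) :
    SR (s * S.h 1 d) := by
  refine ⟨i * np S, ?_, ?_⟩
  · calc i * np S * (i * np S) = i * (np S * i) * np S := by group
      _ = 1 := by rw [np_comm S hi, ← mul_assoc, hii, one_mul, np_sq]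
  · have hinv : S.h 1 d⁻¹ = (S.h 1 d)⁻¹ := by
      apply eq_inv_of_mul_eq_one_left
      rw [S.h_mul, one_mul, inv_mul_cancel, S.h_one]
    calc i * np S * (s * S.h 1 d) * (i * np S)⁻¹ = i * (np S * s) * S.h 1 d * (np S)⁻¹ * i⁻¹ := by group
      _ = i * s * (np S * S.h 1 d * (np S)⁻¹) * i⁻¹ := by rw [np_comm S hs]; group
      _ = i * s * (S.h 1 d⁻¹ * i⁻¹) := by rw [np_h]; group
      _ = i * s * (i⁻¹ * S.h 1 d⁻¹) := by rw [h_comm_LL d⁻¹ (inv_mem hi)]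
      _ = (i * s * i⁻¹) * S.h 1 d⁻¹ := by group
      _ = s⁻¹ * (S.h 1 d)⁻¹ := by rw [his, hinv]
      _ = (S.h 1 d * s)⁻¹ := by group
      _ = (s * S.h 1 d)⁻¹ := by rw [h_comm_LL d hs]

end Full

/-! ### `²F₄(q)` -/

section Main

open Cfsg.Agent.KFacts.TwF4 Cfsg.Agent.H84.GaussTwF4
open Cfsg.Agent.KFacts.TwF4.Inst Cfsg.Agent.ChevalleyStructure.TwF4.TwistedFix
open Cfsg.Lie Cfsg.Agent.H84.TwF4Cover

theorem th_2f4 {K : Type*} [Field K] [Fintype K] {m : ℕ} (hm : 1 ≤ m) (hK : Fintype.card K = 2 ^ (2 * m + 1)) :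
    Th ↥(twistedF4 K (2 ^ m)) := by
  have hchar := Cfsg.Agent.ChevalleyStructure.TwF4.Twisted.charP_two hK
  obtain ⟨φ, hφ⟩ := exists_rln hK
  have hfin : Finite (GL chevF4.Idx K) := inferInstance
  have hq : 2 ^ 3 ≤ 2 ^ (2 * m + 1) := Nat.pow_le_pow_right (by norm_num) (by omega)
  have hcard : Nat.card Kˣ = 2 ^ (2 * m + 1) - 1 := by rw [Nat.card_units, Nat.card_eq_fintype_card, hK]
  obtain ⟨s, hs, hs5, ⟨i, hi, hii, his⟩, hcov⟩ := Cfsg.Agent.H143.Ore.LL_cover (full hK hφ) (k := 2 * m + 1) (by omega)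
    (by rw [Nat.card_eq_fintype_card, hK])
  obtain ⟨d, hd⟩ : ∃ d : Kˣ, d ≠ 1 := by
    classical
    have h1 : 1 < Fintype.card Kˣ := by
      rw [Fintype.card_units, hK]
      omega
    exact Fintype.exists_ne_of_one_lt_card h1 1
  have hd5 : d ^ 5 ≠ 1 := by
    intro h
    have h1 := orderOf_dvd_of_pow_eq_one h
    have h2 := orderOf_dvd_natCard d
    rw [hcard] at h2
    rcases (Nat.dvd_prime (by norm_num : Nat.Prime 5)).1 h1 with h3 | h3
    · exact hd (orderOf_eq_one_iff.1 h3)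
    · rw [h3] at h2
      exact five_not_dvd m h2
  exact ⟨⟨s * (full hK hφ).h 1 d, sr_of (full hK hφ) hs hi hii his d, fun g hg => cover hs hs5 hcov hd5 hg⟩⟩

theorem th_iso2F4 {M : Type*} [Group M] (h : Cfsg.Lie.Iso2F4 M) : Th M := by
  obtain ⟨K, _, _, m, hm, hK, ⟨f⟩⟩ := h
  exact (th_2f4 hm hK).congr f.symm

theorem ore_2f4 {M : Type*} [Group M] (h : Cfsg.Lie.Iso2F4 M) : AllC M := (th_iso2F4 h).allC

theorem four_2f4 {M : Type*} [Group M] (h : Cfsg.Lie.Iso2F4 M) : Inv4 M := (th_iso2F4 h).inv4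

end Main

/-! ### the Tits group -/

section Tits

open Cfsg.Agent.ChevalleyStructure.Tits.Pack Cfsg.Agent.ChevalleyStructure.Tits.Data
  Cfsg.Agent.ChevalleyStructure.Tits.Cert Cfsg.Agent.ChevalleyStructure.Tits.Rank2
  Cfsg.Agent.ChevalleyStructure.Tits.Sat Cfsg.Agent.ChevalleyStructure.Tits.Final
  Cfsg.Agent.ChevalleyStructure.Tits.Mat Cfsg.Agent.ChevalleyStructure.Tits.Order
  Cfsg.Agent.ChevalleyStructure.Tits.Table Cfsg.Agent.ChevalleyStructure.Tits.Main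
open Cfsg.Agent.H246.TitsComp hiding go go_ok go_zero go_succ_even go_succ_odd sound
open Cfsg.Agent.H84.TitsCovData Cfsg.Agent.H84.TitsCovChk Cfsg.Agent.H84.TitsCov Cfsg.Agent.H84.TitsConj

theorem n99 : yH 9 * yH 9 = 1 := by
  have h := n2n2 Sat_yH
  exact h

theorem y7_four : yH 7 * yH 7 * (yH 7 * yH 7) = 1 := by
  have h := WH_eq (a := [7, 7, 7, 7]) (b := []) (by decide) (by decide) (by decide +kernel)
  unfold WH at h
  simpa only [mul_assoc, _root_.List.map_cons, _root_.List.map_nil, _root_.List.prod_cons, _root_.List.prod_nil, _root_.mul_one] using h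

theorem f1_eq : f1 = yH 9 * (yH 7 * yH 7) := by
  unfold f1 WH
  simp only [List.map_cons, List.map_nil, List.prod_cons, List.prod_nil, mul_one]

theorem f1_inv : yH 9 * f1 * (yH 9)⁻¹ = f1⁻¹ := by
  have h1 : (yH 9)⁻¹ = yH 9 := inv_eq_of_mul_eq_one_left n99
  have h2 : (yH 7 * yH 7)⁻¹ = yH 7 * yH 7 := inv_eq_of_mul_eq_one_left y7_four
  rw [f1_eq, mul_inv_rev, h1, h2, ← mul_assoc, n99, one_mul]

theorem tits_result (K : Subgroup (Matrix.GeneralLinearGroup I52 (ZMod 2))) (hK : K = H0) (hF : ∀ t ∈ K, t ≠ 1 → Form t)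
    (h9 : ∀ χ : H0 →* ℤˣ, χ (yH 7) = -1 → χ (yH 9) = 1) :
    Th (commutator K) := by
  subst hK
  obtain ⟨χ, h0, h1⟩ := exists_chi
  have h7 := h1 7 (by norm_num) (by norm_num)
  have hm := mem_commutator_iff χ h7
  have hf1 : f1 ∈ commutator H0 := (hm f1).2 (O5_sign χ O5_f1)
  have hy9 : yH 9 ∈ commutator H0 := (hm _).2 (h9 χ h7)
  refine ⟨⟨⟨f1, hf1⟩, ⟨⟨yH 9, hy9⟩, Subtype.ext n99, Subtype.ext f1_inv⟩, ?_⟩⟩
  intro g hg
  have h3 : ((g : H0) : Matrix.GeneralLinearGroup I52 (ZMod 2)) ≠ 1 := fun h => hg (Subtype.ext (Subtype.ext h))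
  obtain ⟨a, ha, b, hb, h⟩ := cover_H0 g.2 (hF _ (g : H0).2 h3)
  exact ⟨⟨a, ha⟩, ⟨b, hb⟩, Subtype.ext h⟩

/-- the reflection `n₂` lies in the Tits group -/
theorem chi_nine (χ : H0 →* ℤˣ) (_h7 : χ (yH 7) = -1) : χ (yH 9) = 1 := by
  have h : O5 f1 := O5_f1
  have h1 := O5_sign χ h
  rw [f1_eq, map_mul, map_mul] at h1
  rcases Int.units_eq_one_or (χ (yH 7)) with h3 | h3 <;> rw [h3] at h1 <;> simpa using h1

theorem th_tits : Th Cfsg.Lie.TitsGroup := by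
  obtain ⟨φ, hφ⟩ := Cfsg.Agent.ChevalleyStructure.TwF4.TwistedFix.exists_rln Cfsg.Agent.H84.TitsLink.hK0
  refine tits_result T0 T0_eq_H0 ?_ chi_nine
  intro t ht ht1
  obtain ⟨k, w, hw, v, hv, h⟩ := Cfsg.Agent.H84.TitsLink.form_of hφ (t := ⟨t, ht⟩) (fun h => ht1 (congrArg Subtype.val h))
  have hk : Cfsg.Agent.H84.TitsLink.cg k ∈ H0 := by rw [← T0_eq_H0]; exact k.2
  exact ⟨Cfsg.Agent.H84.TitsLink.cg k, hk, w, hw, v, hv, h⟩

theorem th_transfer {Γ : Type*} [Group Γ] (K : Subgroup Γ) {M : Type*} [Group M]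
    (f : M ≃* commutator K) (h : Th (commutator K)) : Th M := h.congr f.symm

theorem th_isoTits {M : Type*} [Group M] (h : Cfsg.Lie.IsoTits M) : Th M := by
  obtain ⟨f⟩ : Nonempty (M ≃* Cfsg.Lie.TitsGroup) := h
  exact th_transfer (Cfsg.Lie.twistedF4 (ZMod 2) 1) f th_tits

theorem ore_tits {M : Type*} [Group M] (h : Cfsg.Lie.IsoTits M) : AllC M := (th_isoTits h).allC

theorem four_tits {M : Type*} [Group M] (h : Cfsg.Lie.IsoTits M) : Inv4 M := (th_isoTits h).inv4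

end Tits

end Cfsg.Agent.H143.Ore
end
end
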